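import Groth.Agent.Pic13.H126.D2Loc
import Groth.Agent.Ega1.QCohLoc

/-!
# Extension of sections from principal opens, with control of the generating locus
-/

set_option autoImplicit false
universe u

open CategoryTheory CategoryTheory.Limits AlgebraicGeometry Opposite TopologicalSpace

namespace Groth.Agent.Pic13.H126.D2Ext

open Groth.Agent.Fdesc.LocGen D2Gen D2Loc

variable {Y V : Scheme.{u}} {L : Y.Modules}

/-- Extension of a section from a principal open of a quasi-compact quasi-separated open. -/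
theorem exists_extend (hL : Coh.IsQCoh L) {W : Y.Opens} (hW : IsCompact (W : Set Y))
    (hW' : IsQuasiSeparated (W : Set Y)) (a : Γ(Y, W)) (t : Γ(L, Y.basicOpen a)) :
    ∃ (n : ℕ) (s : Γ(L, W)), res L (Y.basicOpen_le a) s = ores (Y.basicOpen_le a) (a ^ n) • t := by
  obtain ⟨n, s, hs⟩ := (Ega1.QCohLoc.isLocAt_of_qcqs hL hW hW' a).surj t
  refine ⟨n, s, ?_⟩
  rw [map_pow]
  exact hs

/-- Extension of a section, with control of the points where it generates: the extension vanishes outside
of the principal open. -/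
theorem exists_extend_gen (hL : PicF.IsInvertible L) (hq : Coh.IsQCoh L) {W : Y.Opens}
    (hW : IsCompact (W : Set Y)) (hW' : IsQuasiSeparated (W : Set Y)) (a : Γ(Y, W))
    {D : Y.Opens} (hD : Y.basicOpen a ≤ D) (t : Γ(L, D)) :
    ∃ s : Γ(L, W), (∀ y ∈ Y.basicOpen a, (GenAt s y ↔ GenAt t y)) ∧
      ∀ y ∈ W, y ∉ Y.basicOpen a → ¬ GenAt s y := by
  obtain ⟨n, s, hs⟩ := exists_extend hq hW hW' a (res L hD t)
  refine ⟨a • s, fun y hy => ?_, fun y hy hy' h => ?_⟩
  · have hyW : y ∈ W := Y.basicOpen_le a hy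
    rw [genAt_smul_iff hL a s hyW, ← genAt_res_iff (Y.basicOpen_le a) s hy, hs,
      genAt_smul_iff hL _ _ hy, ores_basicOpen _ _ hy, genAt_res_iff hD t hy]
    have h1 : y ∈ Y.basicOpen (a ^ n) := by
      rw [Scheme.mem_basicOpen _ _ _ hyW] at hy ⊢
      rw [map_pow]
      exact hy.pow n
    exact ⟨fun h => h.2.2, fun h => ⟨hy, h1, h⟩⟩
  · rw [genAt_smul_iff hL a s hy] at h
    exact hy' h.1

end Groth.Agent.Pic13.H126.D2Ext
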