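import Groth.Agent.Pic13.H126.D2Unit
import Groth.Agent.CurvesB.HZero
import Groth.Agent.S0058

/-!
# Lifting generators from an infinitesimal neighbourhood (formal functions in degree zero)

`exists_lift`: `X` proper over a Noetherian ring `A`, `I` an ideal, `L` invertible on `X`.  There is `c` such that for
every section `s` of `L` on the closed subscheme `Y = X ×_A A/I^(c+1)` there is a global section of `L` generating `L`
at all the points of `Y` at which `s` does.
-/

set_option autoImplicit false
universe u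

open CategoryTheory CategoryTheory.Limits AlgebraicGeometry Opposite TopologicalSpace

namespace Groth.Agent.Pic13.H126.D2FF

open Groth.Agent.Fdesc.LocGen Groth.Agent.FormalB Groth.Agent.FormalB.ModPow
  Groth.Agent.FormalB.ModPowAff D2Gen

variable {A : Type u} [CommRing A] [IsNoetherianRing A] {X : Scheme.{u}}
  [X.Over (Spec (CommRingCat.of A))] [IsProper (X ↘ Spec (CommRingCat.of A))]

/-- Formal functions in degree zero, in terms of sections. -/
theorem exists_section_lift (I : Ideal A) {M : X.Modules} (hM : Coh.IsCoh M) :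
    ∃ c : ℕ, ∀ t : Γ(Formal.modPow I (c + 1) M, ⊤), ∃ σ : Γ(M, ⊤),
      ((Formal.completion I M).map (homOfLE (Nat.zero_le c)).op).app ⊤ t =
        (Formal.modPowπ I (0 + 1) M).app ⊤ σ := by
  obtain ⟨c, hc⟩ := Groth.Agent.S0058.result A I X M hM 0
  refine ⟨c, fun t => ?_⟩
  have h1 := hc 0 c (Nat.zero_le c) (by omega)
  obtain ⟨t', rfl⟩ := (CurvesB.HZero.equivAdd (Formal.modPow I (c + 1) M)).surjective t
  have h2 : Sheaf.H.map ((SheafOfModules.toSheaf X.ringCatSheaf).map
        ((Formal.completion I M).map (homOfLE (Nat.zero_le c)).op)) 0 t' ∈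
      Set.range (Formal.toHHmodPow I M 0 0) := by
    rw [← h1]
    exact ⟨t', rfl⟩
  obtain ⟨x, hx⟩ := h2
  refine ⟨CurvesB.HZero.equivAdd M x, ?_⟩
  have h3 := CurvesB.HZero.equivAdd_map ((Formal.completion I M).map (homOfLE (Nat.zero_le c)).op) t'
  have h4 := CurvesB.HZero.equivAdd_map (Formal.modPowπ I (0 + 1) M) x
  refine Eq.trans ?_ h4
  refine h3.symm.trans ?_
  exact congrArg (CurvesB.HZero.equivAdd (Formal.modPow I (0 + 1) M)) hx.symm

/-- A point of the closed subscheme `V(I)`: elements of `I` vanish there. -/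
def Vanishes (I : Ideal A) (x : X) : Prop := ∀ a ∈ I, x ∉ X.basicOpen (toΓ A X ⊤ a)

omit [IsNoetherianRing A] [IsProper (X ↘ Spec (CommRingCat.of A))] in
theorem toΓ_ores (U V : X.Opens) (h : V ≤ U) (a : A) : ores h (toΓ A X U a) = toΓ A X V a := by
  change ores h (ModPow.resΓ X U _) = ModPow.resΓ X V _
  unfold ModPow.resΓ
  exact (ConcreteCategory.congr_hom (X.ringCatSheaf.obj.map_comp (homOfLE (le_top (a := U))).op
    (homOfLE h).op) _).symm

end Groth.Agent.Pic13.H126.D2FF
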