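import Groth.Agent.Fdesc.LocGenPullback

/-!
# Sections generating an invertible module at a point

`GenAt m x`: the section `m` of `L` over `U` generates `L` near the point `x`.
-/

set_option autoImplicit false
universe u

open CategoryTheory CategoryTheory.Limits AlgebraicGeometry Opposite TopologicalSpace

namespace Groth.Agent.Pic13.H126.D2Gen

open Groth.Agent.Fdesc.LocGen

variable {X Y : Scheme.{u}}

/-- The section `m` generates `L` freely over some neighbourhood of `x`. -/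
def GenAt {L : X.Modules} {U : X.Opens} (m : Γ(L, U)) (x : X) : Prop :=
  ∃ (V : X.Opens) (h : V ≤ U), x ∈ V ∧ IsGen (res L h m)

variable {L : X.Modules} {U : X.Opens}

lemma GenAt.mem {m : Γ(L, U)} {x : X} (h : GenAt m x) : x ∈ U := by
  obtain ⟨V, hV, hx, -⟩ := h
  exact hV hx

lemma genAt_of_isGen {m : Γ(L, U)} (h : IsGen m) {x : X} (hx : x ∈ U) : GenAt m x :=
  ⟨U, le_rfl, hx, by simpa using h⟩

lemma isGen_iff_forall_genAt {m : Γ(L, U)} : IsGen m ↔ ∀ x ∈ U, GenAt m x :=
  isGen_iff_forall_exists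

lemma genAt_res_iff {V : X.Opens} (h : V ≤ U) (m : Γ(L, U)) {x : X} (hx : x ∈ V) :
    GenAt (res L h m) x ↔ GenAt m x := by
  constructor
  · rintro ⟨W, hW, hxW, hg⟩
    exact ⟨W, hW.trans h, hxW, by simpa using hg⟩
  · rintro ⟨W, hW, hxW, hg⟩
    refine ⟨W ⊓ V, inf_le_right, ⟨hxW, hx⟩, ?_⟩
    have := hg.res (inf_le_left : W ⊓ V ≤ W)
    simpa using this

/-- The set of points where a section generates. -/
def genOpen (m : Γ(L, U)) : X.Opens where
  carrier := {x | GenAt m x}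
  is_open' := by
    rw [isOpen_iff_forall_mem_open]
    rintro x ⟨V, hV, hxV, hg⟩
    exact ⟨V, fun y hy => ⟨V, hV, hy, hg⟩, V.2, hxV⟩

@[simp] lemma mem_genOpen (m : Γ(L, U)) (x : X) : x ∈ genOpen m ↔ GenAt m x := Iff.rfl

lemma genOpen_le (m : Γ(L, U)) : genOpen m ≤ U := fun _ hx => GenAt.mem hx

lemma isGen_res_iff {V : X.Opens} (h : V ≤ U) (m : Γ(L, U)) :
    IsGen (res L h m) ↔ V ≤ genOpen m := by
  rw [isGen_iff_forall_genAt]
  constructor
  · intro H x hx
    exact (genAt_res_iff h m hx).1 (H x hx)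
  · intro H x hx
    exact (genAt_res_iff h m hx).2 (H hx)

lemma isUnit_iff_le_basicOpen (a : Γ(X, U)) : IsUnit a ↔ U ≤ X.basicOpen a := by
  constructor
  · intro h x hx
    rw [Scheme.mem_basicOpen _ _ _ hx]
    exact h.map _
  · intro h
    apply X.toRingedSpace.isUnit_of_isUnit_germ
    intro x hx
    exact (Scheme.mem_basicOpen _ _ _ hx).1 (h hx)

lemma ores_basicOpen {V : X.Opens} (h : V ≤ U) (a : Γ(X, U)) {x : X} (hx : x ∈ V) :
    x ∈ X.basicOpen (ores h a) ↔ x ∈ X.basicOpen a := by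
  rw [Scheme.mem_basicOpen _ _ _ hx, Scheme.mem_basicOpen _ _ _ (h hx)]
  have h2 : (X.presheaf.germ V x hx) (ores h a) = X.presheaf.germ U x (h hx) a :=
    TopCat.Presheaf.germ_res_apply X.presheaf (homOfLE h) x hx a
  rw [h2]

/-- A multiple of a generator generates at the points where the factor does not vanish. -/
lemma genAt_smul_gen_iff {e : Γ(L, U)} (he : IsGen e) (a : Γ(X, U)) (x : X) :
    GenAt (a • e) x ↔ x ∈ X.basicOpen a := by
  constructor
  · rintro ⟨V, hV, hxV, hg⟩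
    rw [res_smul] at hg
    have h1 := (he.res hV).isUnit_of_smul hg
    rw [← ores_basicOpen hV a hxV]
    exact (isUnit_iff_le_basicOpen _).1 h1 hxV
  · intro h
    refine ⟨X.basicOpen a, X.basicOpen_le a, h, ?_⟩
    rw [res_smul]
    refine (he.res _).unit_smul ?_
    rw [isUnit_iff_le_basicOpen]
    intro y hy
    exact (ores_basicOpen _ a hy).2 hy

/-- Multiplication by a function. -/
lemma genAt_smul_iff (hL : PicF.IsInvertible L) (a : Γ(X, U)) (m : Γ(L, U)) {x : X} (hx : x ∈ U) :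
    GenAt (a • m) x ↔ x ∈ X.basicOpen a ∧ GenAt m x := by
  obtain ⟨V, e, hxV, he⟩ := (isInvertible_iff L).1 hL x
  have hle : V ⊓ U ≤ U := inf_le_right
  have hle' : V ⊓ U ≤ V := inf_le_left
  have hxW : x ∈ V ⊓ U := ⟨hxV, hx⟩
  obtain ⟨b, hb⟩ := (he.res hle').exists_eq (res L hle m)
  rw [← genAt_res_iff hle (a • m) hxW, ← genAt_res_iff hle m hxW, res_smul, hb, smul_smul,
    genAt_smul_gen_iff (he.res hle') _ _, genAt_smul_gen_iff (he.res hle') _ _,
    Scheme.basicOpen_mul]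
  rw [← ores_basicOpen hle a hxW]
  rfl

/-- Adding a section which does not generate does not change generation. -/
lemma GenAt.add {m n : Γ(L, U)} {x : X} (hm : GenAt m x)
    (hn : ¬ GenAt n x) : GenAt (m + n) x := by
  obtain ⟨V, hV, hxV, hg⟩ := hm
  obtain ⟨b, hb⟩ := hg.exists_eq (res L hV n)
  have h1 : ¬ x ∈ X.basicOpen b := by
    intro h
    apply hn
    rw [← genAt_res_iff hV n hxV, hb, genAt_smul_gen_iff hg _ _]
    exact h
  rw [← genAt_res_iff hV (m + n) hxV, map_add, hb]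
  have e1 : res L hV m + b • res L hV m = (1 + b) • res L hV m := by rw [add_smul, one_smul]
  rw [e1, genAt_smul_gen_iff hg _ _]
  rw [Scheme.mem_basicOpen _ _ _ hxV] at h1 ⊢
  rw [map_add, map_one]
  have h3 : (X.presheaf.germ V x hxV b) ∈ IsLocalRing.maximalIdeal (X.presheaf.stalk x) := by
    rw [IsLocalRing.mem_maximalIdeal]
    exact h1
  by_contra h4
  have h5 : (1 + X.presheaf.germ V x hxV b) ∈ IsLocalRing.maximalIdeal (X.presheaf.stalk x) := by
    rw [IsLocalRing.mem_maximalIdeal]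
    exact h4
  have h6 := Ideal.sub_mem _ h5 h3
  rw [add_sub_cancel_right] at h6
  exact (Ideal.ne_top_iff_one _).1 (IsLocalRing.maximalIdeal.isMaximal _).ne_top h6

lemma not_genAt_add (hL : PicF.IsInvertible L) {m n : Γ(L, U)} {x : X} (hx : x ∈ U)
    (hm : ¬ GenAt m x) (hn : ¬ GenAt n x) : ¬ GenAt (m + n) x := by
  intro h
  have h1 : ¬ GenAt (-n) x := by
    intro h2
    apply hn
    have h3 := (genAt_smul_iff hL (-1 : Γ(X, U)) (-n) hx).2
      ⟨(isUnit_iff_le_basicOpen _).1 (isUnit_one.neg) hx, h2⟩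
    simpa using h3
  have h2 := h.add h1
  apply hm
  simpa using h2

lemma not_genAt_zero (hL : PicF.IsInvertible L) {x : X} (hx : x ∈ U) :
    ¬ GenAt (0 : Γ(L, U)) x := by
  intro h
  have h1 : GenAt ((0 : Γ(X, U)) • (0 : Γ(L, U))) x := by rwa [smul_zero]
  rw [genAt_smul_iff hL _ _ hx] at h1
  rw [Scheme.basicOpen_zero] at h1
  exact h1.1

lemma not_genAt_sum (hL : PicF.IsInvertible L) {ι : Type*} (s : Finset ι) (m : ι → Γ(L, U)) {x : X}
    (hx : x ∈ U) (hm : ∀ i ∈ s, ¬ GenAt (m i) x) : ¬ GenAt (∑ i ∈ s, m i) x := by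
  classical
  induction s using Finset.induction_on with
  | empty => simpa using not_genAt_zero hL hx
  | insert i s hi ih =>
    rw [Finset.sum_insert hi]
    exact not_genAt_add hL hx (hm i (Finset.mem_insert_self i s))
      (ih fun j hj => hm j (Finset.mem_insert_of_mem hj))

lemma genAt_app_iff {M N : X.Modules} (φ : M ⟶ N) [IsIso φ] (m : Γ(M, U)) (x : X) :
    GenAt (φ.app U m : Γ(N, U)) x ↔ GenAt m x := by
  constructor
  · rintro ⟨V, hV, hx, hg⟩
    refine ⟨V, hV, hx, ?_⟩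
    rw [← app_res] at hg
    exact (isGen_app_iff φ _).1 hg
  · rintro ⟨V, hV, hx, hg⟩
    refine ⟨V, hV, hx, ?_⟩
    rw [← app_res]
    exact (isGen_app_iff φ _).2 hg

section pull

variable (f : Y ⟶ X)

/-- Generation at a point can be tested after pullback. -/
lemma genAt_pullSec_iff (hL : PicF.IsInvertible L) (m : Γ(L, U)) {y : Y} (hy : f y ∈ U) :
    GenAt (pullSec f m) y ↔ GenAt m (f y) := by
  obtain ⟨V, e, hxV, he⟩ := (isInvertible_iff L).1 hL (f y)
  have hle : V ⊓ U ≤ U := inf_le_right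
  have hle' : V ⊓ U ≤ V := inf_le_left
  have hxW : f y ∈ V ⊓ U := ⟨hxV, hy⟩
  have hyW : y ∈ f ⁻¹ᵁ (V ⊓ U) := hxW
  obtain ⟨b, hb⟩ := (he.res hle').exists_eq (res L hle m)
  rw [← genAt_res_iff hle m hxW, ← genAt_res_iff (f.preimage_mono hle) (pullSec f m) hyW,
    res_pullSec f hle, hb, pullSec_smul, genAt_smul_gen_iff ((he.res hle').pullSec f) _ _,
    genAt_smul_gen_iff (he.res hle') _ _]
  rw [← Scheme.preimage_basicOpen]
  rfl

end pull

end Groth.Agent.Pic13.H126.D2Gen
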