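import Groth.Agent.Pic13.H126.D2Gen

/-!
# Modules which are trivial locally over a base

For `g : Y ⟶ V` and `L` on `Y`: `TrivAt g L v` means that `L` has a generator over the preimage of a neighbourhood of
`v`, and `LocTriv g L` that this is so for all `v`.
-/

set_option autoImplicit false
universe u

open CategoryTheory CategoryTheory.Limits AlgebraicGeometry Opposite TopologicalSpace

namespace Groth.Agent.Pic13.H126.D2Loc

open Groth.Agent.Fdesc.LocGen D2Gen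

variable {Y V Y' V' T : Scheme.{u}}

/-- `L` has a generator over the preimage of a neighbourhood of `v`. -/
def TrivAt (g : Y ⟶ V) (L : Y.Modules) (v : V) : Prop :=
  ∃ (U : V.Opens) (e : Γ(L, g ⁻¹ᵁ U)), v ∈ U ∧ IsGen e

/-- `L` is trivial locally over `V`. -/
def LocTriv (g : Y ⟶ V) (L : Y.Modules) : Prop := ∀ v : V, TrivAt g L v

variable {g : Y ⟶ V} {L L' : Y.Modules}

lemma TrivAt.of_iso {v : V} (e : L ≅ L') (h : TrivAt g L v) : TrivAt g L' v := by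
  obtain ⟨U, s, hv, hs⟩ := h
  exact ⟨U, e.hom.app _ s, hv, hs.app e.hom⟩

lemma LocTriv.of_iso (e : L ≅ L') (h : LocTriv g L) : LocTriv g L' := fun v => (h v).of_iso e

lemma LocTriv.isInvertible (h : LocTriv g L) : PicF.IsInvertible L := by
  rw [isInvertible_iff]
  intro y
  obtain ⟨U, e, hv, he⟩ := h (g y)
  exact ⟨_, e, hv, he⟩

lemma exists_gen_of_restrict_iso {Z : Scheme.{u}} {L : Z.Modules} {W : Z.Opens}
    (h : Nonempty (L.restrict W.ι ≅ Coh.structureModule (↑W))) : ∃ e : Γ(L, W), IsGen e := by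
  obtain ⟨e⟩ := h
  have h1 : IsGen (sec e.inv ⊤) := (isIso_iff_isGen e.inv).mp inferInstance
  obtain ⟨m, hm⟩ := (toRestrict (M := L) W.ι (U := ⊤)).surjective (sec e.inv ⊤)
  rw [← hm, isGen_toRestrict_iff] at h1
  have hW : W = W.ι ''ᵁ ⊤ := by simp
  exact ⟨res L hW.le m, (isGen_congr hW m).2 h1⟩

lemma restrict_iso_of_gen {Z : Scheme.{u}} {L : Z.Modules} {W : Z.Opens} {e : Γ(L, W)}
    (he : IsGen e) : Nonempty (L.restrict W.ι ≅ Coh.structureModule (↑W)) := by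
  have hU : W.ι ''ᵁ ⊤ ≤ W := by simp
  have h1 : IsGen (toRestrict (M := L) W.ι (U := ⊤) (res L hU e)) :=
    (isGen_toRestrict_iff _ _).mpr (he.res hU)
  have : IsIso (homOf (toRestrict (M := L) W.ι (U := ⊤) (res L hU e))) := by
    rw [isIso_iff_isGen, sec_homOf]
    simpa using h1
  exact ⟨(asIso (homOf (toRestrict (M := L) W.ι (U := ⊤) (res L hU e)))).symm⟩

/-- Local triviality in terms of isomorphisms with the structure sheaf. -/
lemma locTriv_iff : LocTriv g L ↔ ∀ v : V, ∃ U : V.Opens, v ∈ U ∧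
    Nonempty (L.restrict (g ⁻¹ᵁ U).ι ≅ Coh.structureModule (↑(g ⁻¹ᵁ U))) := by
  constructor
  · intro h v
    obtain ⟨U, e, hv, he⟩ := h v
    exact ⟨U, hv, restrict_iso_of_gen he⟩
  · intro h v
    obtain ⟨U, hv, he⟩ := h v
    obtain ⟨e, he⟩ := exists_gen_of_restrict_iso he
    exact ⟨U, e, hv, he⟩

/-- Local triviality is stable under pullback. -/
lemma TrivAt.pull {g' : Y' ⟶ V'} {h : Y' ⟶ Y} {b : V' ⟶ V} (w : h ≫ g = g' ≫ b) {v' : V'}
    (H : TrivAt g L (b v')) : TrivAt g' ((Scheme.Modules.pullback h).obj L) v' := by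
  obtain ⟨U, e, hv, he⟩ := H
  have h1 : g' ⁻¹ᵁ (b ⁻¹ᵁ U) = h ⁻¹ᵁ (g ⁻¹ᵁ U) := by
    rw [← Scheme.Hom.comp_preimage, ← Scheme.Hom.comp_preimage, w]
  refine ⟨b ⁻¹ᵁ U, res _ h1.le (pullSec h e), hv, (he.pullSec h).res _⟩

lemma LocTriv.pull {g' : Y' ⟶ V'} {h : Y' ⟶ Y} {b : V' ⟶ V} (w : h ≫ g = g' ≫ b)
    (H : LocTriv g L) : LocTriv g' ((Scheme.Modules.pullback h).obj L) := fun _ => (H _).pull w

/-- Triviality over a coarser base. -/
lemma TrivAt.of_comp {q : V ⟶ T} {v : V} (H : TrivAt (g ≫ q) L (q v)) : TrivAt g L v := by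
  obtain ⟨U, e, hv, he⟩ := H
  have h1 : g ⁻¹ᵁ (q ⁻¹ᵁ U) = (g ≫ q) ⁻¹ᵁ U := (Scheme.Hom.comp_preimage _ _ _).symm
  exact ⟨q ⁻¹ᵁ U, res _ h1.le e, hv, he.res _⟩

lemma LocTriv.of_comp {q : V ⟶ T} (H : LocTriv (g ≫ q) L) : LocTriv g L := fun _ => (H _).of_comp

lemma TrivAt.congr {g' : Y ⟶ V} (h : g = g') {v : V} (H : TrivAt g L v) : TrivAt g' L v := by
  subst h; exact H

/-- A section generating along the fibre of a closed map. -/
lemma trivAt_of_genAt (hg : IsClosedMap g) {v : V} {U : V.Opens} (hv : v ∈ U)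
    (m : Γ(L, g ⁻¹ᵁ U)) (hm : ∀ y : Y, g y = v → GenAt m y) : TrivAt g L v := by
  have hc : IsClosed (g '' (genOpen m : Set Y)ᶜ) := hg _ (genOpen m).2.isClosed_compl
  let W : V.Opens := ⟨(g '' (genOpen m : Set Y)ᶜ)ᶜ, hc.isOpen_compl⟩
  have hvW : v ∈ W := by
    rintro ⟨y, hy, rfl⟩
    exact hy (hm y rfl)
  have hle : g ⁻¹ᵁ (U ⊓ W) ≤ g ⁻¹ᵁ U := g.preimage_mono inf_le_left
  refine ⟨U ⊓ W, res L hle m, ⟨hv, hvW⟩, ?_⟩
  rw [isGen_res_iff]
  intro y hy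
  by_contra h
  exact hy.2 ⟨y, h, rfl⟩

/-- The locus of triviality is open. -/
def trivOpen (g : Y ⟶ V) (L : Y.Modules) : V.Opens where
  carrier := {v | TrivAt g L v}
  is_open' := by
    rw [isOpen_iff_forall_mem_open]
    rintro v ⟨U, e, hv, he⟩
    exact ⟨U, fun w hw => ⟨U, e, hw, he⟩, U.2, hv⟩

@[simp] lemma mem_trivOpen (g : Y ⟶ V) (L : Y.Modules) (v : V) : v ∈ trivOpen g L ↔ TrivAt g L v :=
  Iff.rfl

end Groth.Agent.Pic13.H126.D2Loc
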