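import Groth.Agent.Pic13.H126.D2Gen
import Groth.Agent.Grpsch.CubeLift
import Groth.Agent.FormalB.FormalLoc
import Groth.Agent.Ega1.QcqsPush

/-!
# The unit `L ⟶ j_* j^* L` for the base change `j` of `Spec (A/J) ⟶ Spec A`

For an invertible module `L` the unit is the quotient by `J L`, in the sense of `IsModPow`.
-/

set_option autoImplicit false
universe u

open CategoryTheory CategoryTheory.Limits AlgebraicGeometry Opposite TopologicalSpace

namespace Groth.Agent.Pic13.H126.D2Unit

open Groth.Agent.Fdesc.LocGen Groth.Agent.FormalB Groth.Agent.FormalB.ModPow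
  Groth.Agent.FormalB.ModPowAff D2Gen

variable {A : Type u} [CommRing A] {X : Scheme.{u}} [X.Over (Spec (CommRingCat.of A))]
  {J : Ideal A} {Y : Scheme.{u}} {j : Y ⟶ X} {q : Y ⟶ Spec (CommRingCat.of (A ⧸ J))}

/-- The ideal of the base change of a closed subscheme of `Spec A`. -/
theorem ker_app (hj : IsPullback j q (X ↘ Spec (CommRingCat.of A))
      (Spec.map (CommRingCat.ofHom (Ideal.Quotient.mk J)))) {U : X.Opens} (hU : IsAffineOpen U) :
    RingHom.ker (j.app U).hom = J.map (toΓ A X U) := by
  have : IsClosedImmersion (Spec.map (CommRingCat.ofHom (Ideal.Quotient.mk J))) :=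
    IsClosedImmersion.spec_of_surjective _ Ideal.Quotient.mk_surjective
  obtain ⟨-, -, h3⟩ := Flat2D.ThickRed.app_of_isPullback hj (W := ⊤) (isAffineOpen_top _) hU le_top
  rw [h3]
  have h1 : RingHom.ker ((Spec.map (CommRingCat.ofHom (Ideal.Quotient.mk J))).app ⊤).hom =
      J.map (Scheme.ΓSpecIso (CommRingCat.of A)).inv.hom := by
    ext x
    have e1 := congrArg CommRingCat.Hom.hom
      (Scheme.ΓSpecIso_inv_naturality (CommRingCat.ofHom (Ideal.Quotient.mk J)))
    obtain ⟨a, rfl⟩ := ((Scheme.ΓSpecIso (CommRingCat.of A)).symm.commRingCatIsoToRingEquiv).surjective x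
    have e2 : ((Spec.map (CommRingCat.ofHom (Ideal.Quotient.mk J))).app ⊤).hom
        ((Scheme.ΓSpecIso (CommRingCat.of A)).inv.hom a) =
        (Scheme.ΓSpecIso (CommRingCat.of (A ⧸ J))).inv.hom (Ideal.Quotient.mk J a) :=
      (RingHom.congr_fun e1 a).symm
    rw [RingHom.mem_ker]
    have hinj : Function.Injective (Scheme.ΓSpecIso (CommRingCat.of (A ⧸ J))).inv.hom :=
      ((Scheme.ΓSpecIso (CommRingCat.of (A ⧸ J))).symm.commRingCatIsoToRingEquiv).injective
    constructor
    · intro h
      change ((Spec.map (CommRingCat.ofHom (Ideal.Quotient.mk J))).app ⊤).hom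
        ((Scheme.ΓSpecIso (CommRingCat.of A)).inv.hom a) = 0 at h
      have h4 : a ∈ J := Ideal.Quotient.eq_zero_iff_mem.1
        (hinj ((e2.symm.trans h).trans (map_zero _).symm))
      exact Ideal.mem_map_of_mem _ h4
    · intro h
      have h5 : a ∈ J := by
        have h6 := (Ideal.mem_map_iff_of_surjective (Scheme.ΓSpecIso (CommRingCat.of A)).inv.hom
          ((Scheme.ΓSpecIso (CommRingCat.of A)).symm.commRingCatIsoToRingEquiv).surjective).1 h
        obtain ⟨b, hb, hb'⟩ := h6
        have h7 : b = a := ((Scheme.ΓSpecIso (CommRingCat.of A)).symm.commRingCatIsoToRingEquiv).injective hb'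
        exact h7 ▸ hb
      change ((Spec.map (CommRingCat.ofHom (Ideal.Quotient.mk J))).app ⊤).hom
        ((Scheme.ΓSpecIso (CommRingCat.of A)).inv.hom a) = 0
      refine e2.trans ?_
      rw [Ideal.Quotient.eq_zero_iff_mem.2 h5]
      exact map_zero _
  rw [h1, Ideal.map_map]
  congr 1


variable {L : X.Modules}

/-- The unit `L ⟶ j_* j^* L` is the quotient by `J L`. -/
theorem isModPow_unit (hj : IsPullback j q (X ↘ Spec (CommRingCat.of A))
      (Spec.map (CommRingCat.ofHom (Ideal.Quotient.mk J)))) (hL : PicF.IsInvertible L) :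
    IsModPow J ((Scheme.Modules.pullbackPushforwardAdjunction j).unit.app L) := by
  have : IsClosedImmersion (Spec.map (CommRingCat.ofHom (Ideal.Quotient.mk J))) :=
    IsClosedImmersion.spec_of_surjective _ Ideal.Quotient.mk_surjective
  have : IsClosedImmersion j := MorphismProperty.of_isPullback hj.flip this
  have hq : Coh.IsQCoh L := Ega2.QCohLocal.isQCoh_of_isInvertible hL
  have hq' : Coh.IsQCoh ((Scheme.Modules.pullback j).obj L) :=
    Ega2.QCohLocal.isQCoh_of_isInvertible (isInvertible_pullback j hL)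
  refine FormalLoc.isModPow_of_cover hq (Ega1.QcqsPush.isQCoh_pushforward j _ hq') _ fun x => ?_
  obtain ⟨V, e, hxV, he⟩ := (isInvertible_iff L).1 hL x
  obtain ⟨_, ⟨U, hU, rfl⟩, hxU, hUV⟩ :=
    X.isBasis_affineOpens.exists_subset_of_mem_open hxV V.isOpen
  have hg : IsGen (res L hUV e) := he.res _
  refine ⟨U, hxU, hU, Grpsch.CubeLift.pullSec_surjective j hL hU, fun m => ?_⟩
  obtain ⟨a, rfl⟩ := hg.exists_eq m
  have h1 : ((Scheme.Modules.pullbackPushforwardAdjunction j).unit.app L).app U (a • res L hUV e) = 0 ↔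
      a ∈ J.map (toΓ A X U) := by
    rw [← ker_app hj hU, RingHom.mem_ker]
    have h2 := pullSec_smul j a (res L hUV e)
    constructor
    · intro h
      have h3 : (j.app U a : Γ(Y, j ⁻¹ᵁ U)) • pullSec j (res L hUV e) =
          (0 : Γ(Y, j ⁻¹ᵁ U)) • pullSec j (res L hUV e) := by
        rw [← h2, zero_smul]
        exact h
      exact (hg.pullSec j).ext h3
    · intro h
      refine h2.trans ?_
      have h4 : (j.app U a : Γ(Y, j ⁻¹ᵁ U)) = 0 := h
      rw [h4]
      exact zero_smul _ _
  rw [h1]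
  constructor
  · intro h
    exact Submodule.smul_mem_smul h trivial
  · intro h
    have key : ∀ m ∈ J.map (toΓ A X U) • (⊤ : Submodule Γ(X, U) Γ(L, U)),
        ∃ b ∈ J.map (toΓ A X U), m = b • res L hUV e := by
      intro m hm
      induction hm using Submodule.smul_induction_on' with
      | smul r hr n _ =>
        obtain ⟨c, rfl⟩ := hg.exists_eq n
        exact ⟨r * c, Ideal.mul_mem_right _ _ hr, by rw [mul_smul]⟩
      | add x _ y _ hx hy =>
        obtain ⟨b, hb, rfl⟩ := hx
        obtain ⟨c, hc, rfl⟩ := hy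
        exact ⟨b + c, Ideal.add_mem _ hb hc, by rw [add_smul]⟩
    obtain ⟨b, hb, hab⟩ := key _ h
    rw [hg.ext hab]
    exact hb

end Groth.Agent.Pic13.H126.D2Unit
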