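import Groth.Agent.Pic13.H126.Patch
import Groth.Agent.Pic13.H126.D2Loc

/-!
# Matching generators from lifted generators

`hasGens_of_lift`: the local hypothesis of `exists_patch` follows from the possibility of lifting generators along
`Y' ⟶ X'`, for `π` closed, bijective on points off `Y`, and with `π⁻¹(Y) = Y'` as sets.
-/

set_option autoImplicit false

universe u

open CategoryTheory AlgebraicGeometry TopologicalSpace Opposite

namespace Groth.Agent.Pic13.H126.PatchGens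

open Groth.Agent.Fdesc Groth.Agent.Fdesc.LocGen Groth.Agent.Picfga.LineHom
  Groth.Agent.Picfga.LineDescent Groth.Agent.Picfga.LineFam D2Gen D2Loc Patch

variable {X X' Y Y' : Scheme.{u}}

lemma genAt_fam_iff {G : X' ⟶ X} {L : X.Modules} {L' : X'.Modules} (F : Fam G L L')
    (hL : PicF.IsInvertible L) {U : X.Opens} (m : Γ(L, U)) {y : X'} (hy : G y ∈ U) :
    GenAt (F.map m) y ↔ GenAt m (G y) := by
  obtain ⟨ψ, rfl⟩ := Fam.exists_ofIso hL F
  rw [Fam.ofIso_map]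
  exact (genAt_app_iff ψ.hom (pullSec G m) y).trans (genAt_pullSec_iff G hL m hy)

lemma genAt_fam_on_iff {G : X' ⟶ X} {L : X.Modules} {L' : X'.Modules} (F : Fam G L L')
    (hL : PicF.IsInvertible L) {U : X.Opens} {W : X'.Opens} (h : W ≤ G ⁻¹ᵁ U) (m : Γ(L, U))
    {y : X'} (hy : y ∈ W) : GenAt (F.on h m) y ↔ GenAt m (G y) := by
  rw [Fam.on_def, genAt_res_iff h _ hy, genAt_fam_iff F hL m (h hy)]

lemma isGen_of_forall_notMem {M : X.Modules} {U : X.Opens} (m : Γ(M, U)) (h : ∀ x, x ∉ U) :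
    IsGen m := by
  rw [isGen_iff_forall_genAt]
  exact fun x hx => absurd hx (h x)

lemma eq_of_forall_notMem {M : X.Modules} {U : X.Opens} (m n : Γ(M, U)) (h : ∀ x, x ∉ U) :
    m = n :=
  res_ext M (ι := PEmpty.{1}) (fun i => i.elim) (fun i => i.elim) (fun x hx => absurd hx (h x))
    (fun i => i.elim)

variable {π : X' ⟶ X} {i : Y ⟶ X} {i' : Y' ⟶ X'} {π' : Y' ⟶ Y}
  {L' : X'.Modules} {M : Y.Modules} {N : Y'.Modules}

/-- The possibility of lifting a generator of `M` near `y` to a section of `L'`. -/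
def LiftsAt (μ' : Fam i' L' N) (μ : Fam π' M N) (y : Y) : Prop :=
  ∃ (U : X.Opens) (l : Γ(L', π ⁻¹ᵁ U)) (m : Γ(M, i ⁻¹ᵁ U)), i y ∈ U ∧ IsGen m ∧
    ∀ (h : i' ⁻¹ᵁ (π ⁻¹ᵁ U) ≤ π' ⁻¹ᵁ (i ⁻¹ᵁ U)), μ'.map l = μ.on h m

/-- Restriction of matching sections. -/
lemma match_res {μ' : Fam i' L' N} {μ : Fam π' M N} {U V : X.Opens} (hV : V ≤ U)
    {l : Γ(L', π ⁻¹ᵁ U)} {m : Γ(M, i ⁻¹ᵁ U)} (h : i' ⁻¹ᵁ (π ⁻¹ᵁ U) ≤ π' ⁻¹ᵁ (i ⁻¹ᵁ U))
    (h' : i' ⁻¹ᵁ (π ⁻¹ᵁ V) ≤ π' ⁻¹ᵁ (i ⁻¹ᵁ V)) (e : μ'.map l = μ.on h m) :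
    μ'.map (LocGen.res L' (π.preimage_mono hV) l) = μ.on h' (LocGen.res M (i.preimage_mono hV) m) := by
  rw [Fam.on_res, μ'.res, e, Fam.res_on]

/-- **Matching generators from lifted generators.** -/
theorem hasGens_of_lift (w : i' ≫ π = π' ≫ i) (hπ : IsClosedMap π) (hi : IsClosed (Set.range i))
    (hfib : ∀ x : X, x ∉ Set.range i → ∃ x' : X', ∀ x'' : X', π x'' = x ↔ x'' = x')
    (hpre : ∀ x' : X', π x' ∈ Set.range i → x' ∈ Set.range i')
    (hL' : PicF.IsInvertible L') (hM : PicF.IsInvertible M) (μ' : Fam i' L' N) (μ : Fam π' M N)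
    (hlift : ∀ y : Y, LiftsAt (π := π) (i := i) μ' μ y) (x : X) :
    HasGens (π := π) (i := i) μ' μ x := by
  by_cases hx : x ∈ Set.range i
  · obtain ⟨y, rfl⟩ := hx
    obtain ⟨U, l, m, hyU, hm, hlm⟩ := hlift y
    have hle : i' ⁻¹ᵁ (π ⁻¹ᵁ U) ≤ π' ⁻¹ᵁ (i ⁻¹ᵁ U) := (PatchSq.preimage_eq w _).le
    -- `l` generates along the fibre
    have h1 : ∀ x' : X', π x' = i y → GenAt l x' := by
      intro x' hx'
      obtain ⟨y', rfl⟩ := hpre x' ⟨y, hx'.symm⟩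
      have hy' : π (i' y') ∈ U := by rw [hx']; exact hyU
      have hy'' : y' ∈ i' ⁻¹ᵁ (π ⁻¹ᵁ U) := hy'
      rw [← genAt_fam_iff μ' hL' l (y := y') hy', hlm hle, genAt_fam_on_iff μ hM hle m hy'']
      exact genAt_of_isGen hm (hle hy'')
    have hc : IsClosed (π '' (genOpen l : Set X')ᶜ) := hπ _ (genOpen l).2.isClosed_compl
    let V : X.Opens := ⟨(π '' (genOpen l : Set X')ᶜ)ᶜ, hc.isOpen_compl⟩
    have hyV : i y ∈ V := by
      rintro ⟨x', hx', e⟩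
      exact hx' (h1 x' e)
    have hUV : U ⊓ V ≤ U := inf_le_left
    refine ⟨U ⊓ V, LocGen.res L' (π.preimage_mono hUV) l, LocGen.res M (i.preimage_mono hUV) m,
      ⟨hyU, hyV⟩, ?_, hm.res _, fun h => match_res hUV hle h (hlm hle)⟩
    rw [isGen_res_iff]
    intro x' hx'
    by_contra h
    exact hx'.2 ⟨x', h, rfl⟩
  · obtain ⟨x', hx'⟩ := hfib x hx
    obtain ⟨W, e, hxW, he⟩ := (isInvertible_iff L').1 hL' x'
    have hc : IsClosed (π '' (W : Set X')ᶜ) := hπ _ W.2.isClosed_compl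
    let V : X.Opens := ⟨(π '' (W : Set X')ᶜ ∪ Set.range i)ᶜ, (hc.union hi).isOpen_compl⟩
    have hxV : x ∈ V := by
      rintro (⟨x'', hx'', e⟩ | h)
      · rw [(hx' x'').1 e] at hx''
        exact hx'' hxW
      · exact hx h
    have hVW : π ⁻¹ᵁ V ≤ W := by
      intro z hz
      by_contra h
      exact hz (Or.inl ⟨z, h, rfl⟩)
    have h1 : ∀ y : Y, y ∉ i ⁻¹ᵁ V := fun y hy => hy (Or.inr ⟨y, rfl⟩)
    refine ⟨V, LocGen.res L' hVW e, 0, hxV, he.res _, isGen_of_forall_notMem _ h1, fun h => ?_⟩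
    exact eq_of_forall_notMem _ _ fun y' hy' => h1 _ (h hy')

/-- **Patching of invertible modules, with lifting of generators.** -/
theorem exists_patch_of_lift (P : PatchSq π i i' π') (hπ : IsClosedMap π) (hi : IsClosed (Set.range i))
    (hfib : ∀ x : X, x ∉ Set.range i → ∃ x' : X', ∀ x'' : X', π x'' = x ↔ x'' = x')
    (hpre : ∀ x' : X', π x' ∈ Set.range i → x' ∈ Set.range i')
    (hL' : PicF.IsInvertible L') (hM : PicF.IsInvertible M) (μ' : Fam i' L' N) (μ : Fam π' M N)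
    (hlift : ∀ y : Y, LiftsAt (π := π) (i := i) μ' μ y) :
    ∃ (L : X.Modules) (θ' : Fam π L L') (θ : Fam i L M), PicF.IsInvertible L ∧
      Compat P.w μ' μ θ' θ :=
  exists_patch P μ' μ (hasGens_of_lift P.w hπ hi hfib hpre hL' hM μ' μ hlift)

end Groth.Agent.Pic13.H126.PatchGens
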