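import Groth.Agent.Sga2.LefThick
import Groth.Agent.FormalB.HHLin
import Groth.Agent.CohqA.IdealMod
import Groth.Agent.CohqA.Acyc
import Mathlib.CategoryTheory.Abelian.DiagramLemmas.KernelCokernelComp

/-!
# Vanishing of `H¹(J^(m+1)/J^(m+2))` from the vanishing of the cohomology of the powers of `J`
-/

set_option autoImplicit false

universe u

open CategoryTheory CategoryTheory.Limits AlgebraicGeometry TopologicalSpace Opposite

namespace Groth.Agent.Pic13.H126.ThickH1

open Groth.Agent.Fdesc.LocGen Groth.Agent.Sga2.LineLift Groth.Agent.Sga2.LefThick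
  Groth.Agent.FormalB.HHLin

/-- `0 ⟶ ker f ⟶ ker (f ≫ g) ⟶ ker g ⟶ 0` is exact for `f` epi. -/
theorem exists_shortExact {C : Type*} [Category C] [Abelian C] {A B D : C} (f : A ⟶ B) (g : B ⟶ D)
    [Epi f] : ∃ S : ShortComplex C, S.ShortExact ∧ S.X₁ = kernel f ∧ S.X₂ = kernel (f ≫ g) ∧
      S.X₃ = kernel g := by
  refine ⟨⟨kernel.map f (f ≫ g) (𝟙 _) g (by simp), kernel.map (f ≫ g) g f (𝟙 _) (by simp), by
    ext; simp⟩, ?_, rfl, rfl, rfl⟩
  have h0 := (kernelCokernelCompSequence_exact f g).exact 0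
  have h1 := (kernelCokernelCompSequence_exact f g).exact 1
  have hm : Mono (kernel.map f (f ≫ g) (𝟙 _) g (by simp)) := by
    have : Mono (kernel.map f (f ≫ g) (𝟙 _) g (by simp) ≫ kernel.ι (f ≫ g)) := by
      rw [kernel.lift_ι]
      infer_instance
    exact mono_of_mono _ (kernel.ι (f ≫ g))
  have he : Epi (kernel.map (f ≫ g) g f (𝟙 _) (by simp)) := by
    have hz : IsZero (cokernel f) := isZero_cokernel_of_epi f
    exact h1.epi_f (hz.eq_of_tgt _ _)
  exact { exact := h0, mono_f := hm, epi_g := he }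

/-- `O_X ⟶ O_X/I` is an epimorphism. -/
theorem epi_toSubscheme {X : Scheme.{u}} (I : X.IdealSheafData) :
    Epi (C := X.Modules) (ClSub.toSubscheme I) :=
  CohqA.Acyc.epi_of_surjective_affine _ fun U hU => CohqA.IdealMod.toSubscheme_app_surjective I ⟨U, hU⟩

theorem toSubscheme_quotMap {X : Scheme.{u}} {I J : X.IdealSheafData} (h : I ≤ J) :
    ClSub.toSubscheme I ≫ Lef.quotMap h = ClSub.toSubscheme J := by
  ext V s
  change (Lef.quotMap h).app V ((ClSub.toSubscheme I).app V s) = (ClSub.toSubscheme J).app V s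
  rw [Groth.Agent.Sga2.LefBasic.toSubscheme_app, Groth.Agent.Sga2.LefBasic.toSubscheme_app,
    Groth.Agent.Sga2.LefBasic.quotMap_app]
  have h1 : J.subschemeι = Scheme.IdealSheafData.inclusion h ≫ I.subschemeι :=
    (Scheme.IdealSheafData.inclusion_subschemeι h).symm
  rw [Scheme.Hom.app_eq_appLE, Scheme.Hom.app_eq_appLE, ← CommRingCat.comp_apply,
    Scheme.Hom.appLE_comp_appLE]
  congr 2
  simp only [Scheme.IdealSheafData.inclusion_subschemeι]

theorem subsingleton_P {X : Scheme.{u}} (J : X.IdealSheafData) (m : ℕ)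
    (h1 : Subsingleton (Coh.HH X (ClSub.idealMod (J ^ (m + 1))) 1))
    (h2 : Subsingleton (Coh.HH X (ClSub.idealMod (J ^ (m + 1 + 1))) 2)) :
    Subsingleton (Coh.HH X (P J m) 1) := by
  have := epi_toSubscheme (J ^ (m + 1 + 1))
  obtain ⟨S, hS, e1, e2, e3⟩ := exists_shortExact (C := X.Modules) (ClSub.toSubscheme (J ^ (m + 1 + 1)))
    (Lef.quotMap (Lef.pow_succ_le J m))
  rw [toSubscheme_quotMap] at e2
  change Subsingleton (Coh.HH X (kernel (Lef.quotMap (Lef.pow_succ_le J m))) 1)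
  rw [← e3]
  rw [ClSub.idealMod, ← e2] at h1
  rw [ClSub.idealMod, ← e1] at h2
  have key : ∀ x : Coh.HH X S.X₃ 1, x = 0 := by
    intro x
    obtain ⟨y, hy⟩ := exact₃ hS 1 x (Subsingleton.elim _ _)
    rw [← hy, Subsingleton.elim y 0, map_zero]
  exact ⟨fun a b => (key a).trans (key b).symm⟩

end Groth.Agent.Pic13.H126.ThickH1
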