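import Groth.Agent.Pic13.H126.ThickFF
import Groth.Agent.Pic13.H126.ThickH1
import Groth.Agent.Pic13.H126.PatchGens
import Groth.Agent.Pic13.H602.Rig
import Groth.Agent.Pic13.H17.Patch
import Groth.Agent.Sga2.LefOpen
import Groth.Agent.Smoothlim.ConormalRes
import Groth.Agent.Divis.IdealComap

/-!
# Lifting generators along a closed immersion over the affine opens of the base
-/

set_option autoImplicit false

universe u

open CategoryTheory CategoryTheory.Limits AlgebraicGeometry TopologicalSpace Opposite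

namespace Groth.Agent.Pic13.H126.LiftOn

open Groth.Agent.Fdesc Groth.Agent.Fdesc.LocGen Groth.Agent.Picfga.LineHom
  Groth.Agent.Picfga.LineDescent Groth.Agent.Picfga.LineFam Groth.Agent.FormalB.ModPowAff
  Groth.Agent.Sga2.LefThick ThickLift

section bij

variable {Y Y' : Scheme.{u}} {G : Y' ⟶ Y} {L : Y.Modules} {L' : Y'.Modules}

/-- Families along open immersions are injective on the opens contained in the range. -/
theorem map_injective [IsOpenImmersion G] (hL : PicF.IsInvertible L) (F : Fam G L L') {U : Y.Opens}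
    (hU : U ≤ G.opensRange) : Function.Injective (F.map (U := U)) := by
  intro s t hst
  obtain ⟨V, e, hV, he⟩ := Fam.exists_gens hL
  refine res_ext L (V := U) (fun i => U ⊓ V i) (fun i => inf_le_left) (cover_inf hV U) fun i => ?_
  obtain ⟨a, ha⟩ := exists_smul (he i) (inf_le_right : U ⊓ V i ≤ V i)
    (LocGen.res L (inf_le_left : U ⊓ V i ≤ U) s)
  obtain ⟨c, hc⟩ := exists_smul (he i) (inf_le_right : U ⊓ V i ≤ V i)
    (LocGen.res L (inf_le_left : U ⊓ V i ≤ U) t)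
  have h1 := congrArg (LocGen.res L' (G.preimage_mono (inf_le_left : U ⊓ V i ≤ U))) hst
  rw [← F.res (inf_le_left : U ⊓ V i ≤ U), ← F.res (inf_le_left : U ⊓ V i ≤ U), ← ha, ← hc, F.smul,
    F.smul] at h1
  have h2 := (F.gen ((he i).res _)).ext h1
  have h3 := (app_bijective G ((inf_le_left : U ⊓ V i ≤ U).trans hU)).1 h2
  rw [← ha, ← hc, h3]

/-- Families along open immersions are surjective on the opens contained in the range. -/
theorem map_surjective [IsOpenImmersion G] (hL : PicF.IsInvertible L) (F : Fam G L L') {U : Y.Opens}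
    (hU : U ≤ G.opensRange) : Function.Surjective (F.map (U := U)) := by
  intro s
  obtain ⟨V, e, hV, he⟩ := Fam.exists_gens hL
  have key : ∀ i, ∃ t : Γ(L, U ⊓ V i), F.map t =
      LocGen.res L' (G.preimage_mono (inf_le_left : U ⊓ V i ≤ U)) s := by
    intro i
    obtain ⟨a, ha⟩ := exists_smul (F.gen (he i)) (G.preimage_mono (inf_le_right : U ⊓ V i ≤ V i))
      (LocGen.res L' (G.preimage_mono (inf_le_left : U ⊓ V i ≤ U)) s)
    obtain ⟨c, rfl⟩ := (app_bijective G ((inf_le_left : U ⊓ V i ≤ U).trans hU)).2 a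
    refine ⟨c • LocGen.res L (inf_le_right : U ⊓ V i ≤ V i) (e i), ?_⟩
    rw [F.smul, F.res, ← ha]
  choose t ht using key
  obtain ⟨r, hr⟩ := res_glue L (fun i => U ⊓ V i) (fun i => (inf_le_left : U ⊓ V i ≤ U)) (cover_inf hV U) t
    (fun i j => by
      apply map_injective hL F ((inf_le_left.trans inf_le_left).trans hU)
      rw [F.res, F.res, ht, ht, res_res, res_res])
  refine ⟨r, ?_⟩
  refine res_ext L' (V := G ⁻¹ᵁ U) (fun i => G ⁻¹ᵁ (U ⊓ V i)) (fun i => G.preimage_mono inf_le_left) ?_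
    fun i => ?_
  · rw [← Scheme.Hom.preimage_iSup]
    exact G.preimage_mono (cover_inf hV U)
  · rw [← F.res (inf_le_left : U ⊓ V i ≤ U), hr, ht]

end bij

section van

open Groth.Agent.FormalB.HHLin

theorem subsingleton_of_iso {X : Scheme.{u}} {M N : X.Modules} (e : M ≅ N) (p : ℕ)
    (h : Subsingleton (Coh.HH X M p)) : Subsingleton (Coh.HH X N p) := by
  have key : ∀ x : Coh.HH X N p, x = 0 := by
    intro x
    have : hm e.hom p (hm e.inv p x) = x := by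
      rw [← hm_comp, e.inv_hom_id, hm_id]
    rw [← this, Subsingleton.elim (hm e.inv p x) 0, map_zero]
  exact ⟨fun a b => (key a).trans (key b).symm⟩

/-- Restriction of the powers of an ideal to an open subscheme. -/
theorem nonempty_restrict_iso {X : Scheme.{u}} (J : X.IdealSheafData) (V : X.Opens) (m : ℕ) :
    Nonempty ((ClSub.idealMod (J ^ m)).restrict V.ι ≅ ClSub.idealMod ((J.comap V.ι) ^ m)) := by
  let i := (J ^ m).subschemeι
  let i' := ((J.comap V.ι) ^ m).subschemeι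
  have hi : i.ker = J ^ m := Scheme.IdealSheafData.ker_subschemeι _
  have hi' : i'.ker = (J.comap V.ι) ^ m := Scheme.IdealSheafData.ker_subschemeι _
  have h1 : i.ker.comap V.ι = i'.ker := by
    rw [hi, hi', Sga2.LefOpen.comap_pow]
  let g : ((J.comap V.ι) ^ m).subscheme ⟶ (J ^ m).subscheme :=
    IsClosedImmersion.lift i (i' ≫ V.ι) (by
      rw [Scheme.Hom.ker_comp, Scheme.IdealSheafData.le_map_iff_comap_le, h1])
  have hg : g ≫ i = i' ≫ V.ι := IsClosedImmersion.lift_fac _ _ _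
  have H : IsPullback i' g V.ι i := isPullback_of_isClosedImmersion _ _ _ _ hg.symm h1
  have e := Smoothlim.ConormalRes.restrictIdealModIso H
  rw [hi, hi'] at e
  exact ⟨e⟩

theorem subsingleton_P_restrict {X : Scheme.{u}} (J : X.IdealSheafData) (V : X.Opens)
    (hH : ∀ j m : ℕ, 0 < j → 0 < m → Subsingleton (Coh.HHon X (ClSub.idealMod (J ^ m)) V j)) (m : ℕ) :
    Subsingleton (Coh.HH V.toScheme (P (J.comap V.ι) m) 1) := by
  obtain ⟨e₁⟩ := nonempty_restrict_iso J V (m + 1)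
  obtain ⟨e₂⟩ := nonempty_restrict_iso J V (m + 1 + 1)
  exact ThickH1.subsingleton_P _ _ (subsingleton_of_iso e₁ 1 (hH 1 _ (by omega) (by omega)))
    (subsingleton_of_iso e₂ 2 (hH 2 _ (by omega) (by omega)))

end van

/-- **Lifting of generators along a closed immersion, over an open subscheme proper over a Noetherian ring.** -/
theorem exists_lift_on {A : Type u} [CommRing A] [IsNoetherianRing A] {X Y : Scheme.{u}} (V : X.Opens)
    [V.toScheme.Over (Spec (CommRingCat.of A))] [IsProper (V.toScheme ↘ Spec (CommRingCat.of A))]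
    (I : Ideal A) (i : Y ⟶ X) [IsClosedImmersion i]
    (hJ : ∀ W : V.toScheme.affineOpens, (i.ker.comap V.ι).ideal W = I.map (toΓ A V.toScheme W.1))
    (hH : ∀ j m : ℕ, 0 < j → 0 < m → Subsingleton (Coh.HHon X (ClSub.idealMod (i.ker ^ m)) V j))
    {L : X.Modules} (hL : PicF.IsInvertible L) {N : Y.Modules} (μ : Fam i L N)
    (n : Γ(N, i ⁻¹ᵁ V)) (hn : IsGen n) : ∃ l : Γ(L, V), μ.map l = n := by
  let JZ := i.ker.comap V.ι
  have hκ0 : i.ker ≤ (tι JZ 0 ≫ V.ι).ker := by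
    rw [Scheme.Hom.ker_comp, Scheme.IdealSheafData.le_map_iff_comap_le,
      Scheme.IdealSheafData.ker_subschemeι, zero_add, pow_one]
  let κ : T JZ 0 ⟶ Y := IsClosedImmersion.lift i (tι JZ 0 ≫ V.ι) hκ0
  have hκ : κ ≫ i = tι JZ 0 ≫ V.ι := IsClosedImmersion.lift_fac _ _ _
  have hpb : IsPullback (tι JZ 0) κ V.ι i := isPullback_of_isClosedImmersion _ _ _ _ hκ.symm (by
    rw [Scheme.IdealSheafData.ker_subschemeι, zero_add, pow_one])
  have hκo : IsOpenImmersion κ := MorphismProperty.of_isPullback hpb inferInstance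
  have hrange : i ⁻¹ᵁ V ≤ κ.opensRange := by
    intro y hy
    obtain ⟨z, -, hz⟩ := Scheme.exists_preimage_of_isPullback hpb ⟨i y, hy⟩ y rfl
    exact ⟨z, hz⟩
  let LZ : V.toScheme.Modules := (Scheme.Modules.pullback V.ι).obj L
  have hLZ : PicF.IsInvertible LZ := isInvertible_pullback _ hL
  let θ : Fam V.ι L LZ := Fam.ofIso (Iso.refl _)
  let c := can JZ LZ 0
  obtain ⟨ρ, hρ⟩ := H602.Rig.exists_fill hL μ ((θ.comp c).cast hκ.symm)
  have hle : (⊤ : (T JZ 0).Opens) ≤ κ ⁻¹ᵁ (i ⁻¹ᵁ V) := by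
    intro z _
    have h1 : (κ ≫ i) z = (tι JZ 0 ≫ V.ι) z := by rw [hκ]
    change i (κ z) ∈ V
    rw [← Scheme.Hom.comp_apply, h1]
    exact (tι JZ 0 z).2
  obtain ⟨σ, hσ⟩ := ThickFF.exists_section I JZ hJ (subsingleton_P_restrict i.ker V hH) hLZ
    (ρ.on hle n) (ρ.isGen_on hle hn)
  obtain ⟨l, hl⟩ := map_surjective hL θ (U := V) (by rw [Scheme.Opens.opensRange_ι])
    (LocGen.res LZ (le_top : V.ι ⁻¹ᵁ V ≤ ⊤) σ)
  refine ⟨l, ?_⟩
  apply map_injective (μ.isInvertible hL) ρ hrange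
  have h1 : ρ.map (μ.map l) = ((θ.comp c).cast hκ.symm).map l := by rw [← hρ]; rfl
  rw [h1, Fam.cast_map, Fam.comp_map, hl, c.res, hσ]
  have h2 : ∀ (a : Γ(ThickLift.N JZ LZ 0, κ ⁻¹ᵁ (i ⁻¹ᵁ V))) (W : (T JZ 0).Opens) (h3 : W ≤ ⊤)
      (h4 : κ ⁻¹ᵁ (i ⁻¹ᵁ V) ≤ W),
      LocGen.res _ h4 (LocGen.res _ h3 (LocGen.res _ hle a)) = a := by
    intro a W h3 h4
    rw [res_res, res_res]
    exact res_refl _ _
  exact h2 (ρ.map n) _ _ _


/-- `toΓ` for the structure map `b⁻¹U ⟶ U ≅ Spec Γ(X, U)`. -/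
theorem toΓ_eq_appLE {X X' : Scheme.{u}} (b : X' ⟶ X) {U : X.Opens} (hU : IsAffineOpen U)
    (W : (b ⁻¹ᵁ U).toScheme.Opens) (e : W ≤ ((b ⁻¹ᵁ U).ι ≫ b) ⁻¹ᵁ U) :
    letI : (b ⁻¹ᵁ U).toScheme.Over (Spec (CommRingCat.of Γ(X, U))) := ⟨(b ∣_ U) ≫ hU.isoSpec.hom⟩
    toΓ Γ(X, U) (b ⁻¹ᵁ U).toScheme W = (((b ⁻¹ᵁ U).ι ≫ b).appLE U W e).hom := by
  letI : (b ⁻¹ᵁ U).toScheme.Over (Spec (CommRingCat.of Γ(X, U))) := ⟨(b ∣_ U) ≫ hU.isoSpec.hom⟩
  have hg : ((b ∣_ U) ≫ hU.isoSpec.hom) ≫ hU.fromSpec = (b ⁻¹ᵁ U).ι ≫ b := by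
    rw [Category.assoc, IsAffineOpen.fromSpec, Iso.hom_inv_id_assoc, morphismRestrict_ι]
  refine RingHom.ext fun a => ?_
  have e0 : (⊤ : (Spec Γ(X, U)).Opens) ≤ hU.fromSpec ⁻¹ᵁ U := by
    rw [hU.fromSpec_preimage_self]
  have h2 : hU.fromSpec.appLE U ⊤ e0 = (Scheme.ΓSpecIso Γ(X, U)).inv := by
    rw [Scheme.Hom.appLE, hU.fromSpec_app_self, Category.assoc, ← Functor.map_comp]
    exact (congrArg (fun t => (Scheme.ΓSpecIso Γ(X, U)).inv ≫ t)
      ((Spec Γ(X, U)).presheaf.map_id _)).trans (Category.comp_id _)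
  have h3 : toΓ Γ(X, U) (b ⁻¹ᵁ U).toScheme W a =
      (((b ∣_ U) ≫ hU.isoSpec.hom).appLE ⊤ W (fun _ _ => trivial)).hom
        ((Scheme.ΓSpecIso Γ(X, U)).inv.hom a) := rfl
  rw [h3, ← h2]
  have h4 := Scheme.Hom.appLE_comp_appLE ((b ∣_ U) ≫ hU.isoSpec.hom) hU.fromSpec U ⊤ W e0
    (fun _ _ => trivial)
  refine (congr(($h4) a)).trans ?_
  simp only [hg]

open PatchGens Patch in
/-- **Lifting of generators for a proper morphism to a locally Noetherian scheme.** -/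
theorem liftsAt {X X' Y Y' : Scheme.{u}} {b : X' ⟶ X} [IsProper b] [IsLocallyNoetherian X]
    (I : X.IdealSheafData) {i : Y ⟶ X} [IsClosedImmersion i] {i' : Y' ⟶ X'} [IsClosedImmersion i']
    {π' : Y' ⟶ Y} (w : i' ≫ b = π' ≫ i) (hker : i'.ker = I.comap b)
    (hH : ∀ (U : X.affineOpens) (j m : ℕ), 0 < j → 0 < m →
      Subsingleton (Coh.HHon X' (ClSub.idealMod ((I.comap b) ^ m)) (b ⁻¹ᵁ U.1) j))
    {L' : X'.Modules} {M : Y.Modules} {N : Y'.Modules} (hL' : PicF.IsInvertible L')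
    (hM : PicF.IsInvertible M) (μ' : Fam i' L' N) (μ : Fam π' M N) (y : Y) :
    LiftsAt (π := b) (i := i) μ' μ y := by
  obtain ⟨W, e, hyW, he⟩ := (isInvertible_iff M).1 hM y
  obtain ⟨O, hO, hOW⟩ := i.isClosedEmbedding.isInducing.isOpen_iff.1 W.2
  have hyO : i y ∈ O := by
    have : y ∈ i ⁻¹' O := by rw [hOW]; exact hyW
    exact this
  obtain ⟨_, ⟨U, hU, rfl⟩, hyU, hUO⟩ := X.isBasis_affineOpens.exists_subset_of_mem_open hyO hO
  have hUW : i ⁻¹ᵁ U ≤ W := by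
    intro z hz
    have : z ∈ i ⁻¹' O := hUO hz
    rw [hOW] at this
    exact this
  have hle : i' ⁻¹ᵁ (b ⁻¹ᵁ U) ≤ π' ⁻¹ᵁ (i ⁻¹ᵁ U) := (PatchSq.preimage_eq w _).le
  letI : (b ⁻¹ᵁ U).toScheme.Over (Spec (CommRingCat.of Γ(X, U))) := ⟨(b ∣_ U) ≫ hU.isoSpec.hom⟩
  have hpr : IsProper ((b ⁻¹ᵁ U).toScheme ↘ Spec (CommRingCat.of Γ(X, U))) :=
    inferInstanceAs (IsProper ((b ∣_ U) ≫ hU.isoSpec.hom))
  have hN : IsNoetherianRing Γ(X, U) := IsLocallyNoetherian.component_noetherian ⟨U, hU⟩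
  obtain ⟨l, hl⟩ := exists_lift_on (A := Γ(X, U)) (b ⁻¹ᵁ U) (I.ideal ⟨U, hU⟩) i' (by
      intro W
      have e' : W.1 ≤ ((b ⁻¹ᵁ U).ι ≫ b) ⁻¹ᵁ U := fun x _ => x.2
      rw [hker, ← Scheme.IdealSheafData.comap_comp,
        Divis.IdealComap.ideal_comap I ((b ⁻¹ᵁ U).ι ≫ b) ⟨U, hU⟩ W e', toΓ_eq_appLE b hU W.1 e'])
    (by rw [hker]; exact hH ⟨U, hU⟩) hL' μ' (μ.on hle (LocGen.res M hUW e))
    (μ.isGen_on hle (he.res hUW))
  exact ⟨U, l, LocGen.res M hUW e, hyU, he.res hUW, fun _ => hl⟩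

end Groth.Agent.Pic13.H126.LiftOn
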