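import Groth.Agent.Ega3B.AcyclicAlg
import Mathlib.LinearAlgebra.TensorProduct.Prod
import Mathlib.LinearAlgebra.TensorProduct.Pi

/-!
# Bounded complexes of flat modules with finite free cohomology

`IsHBasis d e` : the cocycles `e n k` represent a basis of the cohomology in degree `n + 1`, for all `n`.
`IsHBasis.baseChange` : for a bounded complex of flat modules this is stable under base change.
-/

set_option autoImplicit false

open TensorProduct

namespace Groth.Agent.Pic13.H126.NilAlg

open Groth.Agent.Ega3B.AcyclicAlg Groth.Agent.VarietyB.BCAlg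

universe u v w

section Def

variable {A : Type u} [CommRing A] {C : ℕ → Type v} [∀ n, AddCommGroup (C n)]
  [∀ n, Module A (C n)] (d : ∀ n, C n →ₗ[A] C (n + 1)) {κ : ℕ → Type} [∀ n, Fintype (κ n)]
  (e : ∀ n, κ n → C (n + 1))

/-- The cocycles `e n k` represent a basis of the cohomology in degree `n + 1`, for all `n`. -/
structure IsHBasis : Prop where
  dd : ∀ n x, d (n + 1) (d n x) = 0
  closed : ∀ n k, d (n + 1) (e n k) = 0
  exists_rep : ∀ n z, d (n + 1) z = 0 → ∃ (b : κ n → A) (y : C n), z = ∑ k, b k • e n k + d n y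
  unique : ∀ n (b : κ n → A) (y : C n), ∑ k, b k • e n k + d n y = 0 → b = 0

/-- The differential of the auxiliary exact complex. -/
noncomputable def dC (n : ℕ) : ((κ n → A) × C n) →ₗ[A] ((κ (n + 1) → A) × C (n + 1)) :=
  LinearMap.prod 0 (LinearMap.coprod (Fintype.linearCombination A (e n)) (d n))

theorem dC_apply (n : ℕ) (x : (κ n → A) × C n) :
    dC d e n x = (0, ∑ k, x.1 k • e n k + d n x.2) := by
  refine Prod.ext rfl ?_
  change LinearMap.coprod (Fintype.linearCombination A (e n)) (d n) x = _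
  rw [LinearMap.coprod_apply, Fintype.linearCombination_apply]

variable {d e}

namespace IsHBasis

variable (h : IsHBasis d e)

include h

theorem exact (n : ℕ) : Function.Exact (dC d e n) (dC d e (n + 1)) := by
  rintro ⟨f, x⟩
  constructor
  · intro hx
    rw [dC_apply, Prod.mk_eq_zero] at hx
    have hf : f = 0 := h.unique (n + 1) f x hx.2
    subst hf
    have hx' : d (n + 1) x = 0 := by simpa using hx.2
    obtain ⟨b, y, hb⟩ := h.exists_rep n x hx'
    exact ⟨(b, y), by rw [dC_apply, hb]⟩
  · rintro ⟨⟨b, y⟩, hb⟩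
    rw [dC_apply, Prod.mk.injEq] at hb
    obtain ⟨rfl, rfl⟩ := hb
    rw [dC_apply, Prod.mk_eq_zero]
    refine ⟨rfl, ?_⟩
    simp only [Pi.zero_apply, zero_smul, Finset.sum_const_zero, zero_add]
    rw [map_add, map_sum, h.dd, add_zero]
    refine Finset.sum_eq_zero fun k _ => ?_
    rw [map_smul, h.closed, smul_zero]

theorem ker_le (n : ℕ) (x : LinearMap.ker (dC d e n)) : x.1.1 = 0 := by
  have := x.2
  rw [LinearMap.mem_ker, dC_apply, Prod.mk_eq_zero] at this
  exact h.unique n _ _ this.2

/-- Bounded complexes have bounded cohomology. -/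
theorem subsingleton (n : ℕ) (hn : Subsingleton (C (n + 1))) : Subsingleton (κ n → A) := by
  refine ⟨fun a b => ?_⟩
  rw [← sub_eq_zero]
  exact h.unique n _ 0 (Subsingleton.elim _ _)

end IsHBasis

theorem flat_prod {M N : Type*} [AddCommGroup M] [Module A M] [AddCommGroup N] [Module A N]
    [Module.Flat A M] [Module.Flat A N] : Module.Flat A (M × N) := by
  refine Ega3A.FlatSES.flat_middle (f := LinearMap.inl A M N) (g := LinearMap.snd A M N)
    LinearMap.inl_injective ?_ LinearMap.snd_surjective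
  rintro ⟨m, n⟩
  constructor
  · intro h
    exact ⟨m, by rw [LinearMap.inl_apply, Prod.mk.injEq]; exact ⟨rfl, h.symm⟩⟩
  · rintro ⟨a, ha⟩
    rw [← ha]
    rfl

end Def

section Prod

variable {A : Type u} [CommRing A] {B : Type w} [CommRing B] [Algebra A B]

section

variable {M N M' N' : Type*} [AddCommGroup M] [Module A M] [AddCommGroup N] [Module A N]
  [AddCommGroup M'] [Module B M'] [AddCommGroup N'] [Module B N']

/-- Product of two semilinear maps. -/
def prodS (s : M →ₛₗ[algebraMap A B] M') (t : N →ₛₗ[algebraMap A B] N') :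
    (M × N) →ₛₗ[algebraMap A B] (M' × N') where
  toFun x := (s x.1, t x.2)
  map_add' x y := by ext <;> simp
  map_smul' a x := by ext <;> simp [map_smulₛₗ]

theorem prodS_apply (s : M →ₛₗ[algebraMap A B] M') (t : N →ₛₗ[algebraMap A B] N') (x : M × N) :
    prodS s t x = (s x.1, t x.2) := rfl

theorem bc_prodS (s : M →ₛₗ[algebraMap A B] M') (t : N →ₛₗ[algebraMap A B] N') (x : B ⊗[A] (M × N)) :
    bc (prodS s t) x = (bc s ((LinearMap.fst A M N).lTensor B x), bc t ((LinearMap.snd A M N).lTensor B x)) := by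
  induction x using TensorProduct.induction_on with
  | zero => simp only [map_zero]; rfl
  | add x y hx hy => rw [map_add, hx, hy, map_add, map_add, map_add, map_add]; rfl
  | tmul b x =>
    rw [bc_tmul, prodS_apply, LinearMap.lTensor_tmul, LinearMap.lTensor_tmul, bc_tmul, bc_tmul]
    rfl

theorem bijective_bc_prodS {s : M →ₛₗ[algebraMap A B] M'} {t : N →ₛₗ[algebraMap A B] N'}
    (hs : Function.Bijective (bc s)) (ht : Function.Bijective (bc t)) :
    Function.Bijective (bc (prodS s t)) := by
  have h1 : (bc (prodS s t) : B ⊗[A] (M × N) → M' × N') =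
      Prod.map (bc s) (bc t) ∘ (TensorProduct.prodRight A B B M N) := by
    funext x
    rw [bc_prodS]
    change _ = Prod.map (bc s) (bc t) (TensorProduct.prodRight A B B M N x)
    induction x using TensorProduct.induction_on with
    | zero => simp only [map_zero]; exact Prod.ext (map_zero (bc s)).symm (map_zero (bc t)).symm
    | add x y hx hy =>
      rw [map_add, map_add, map_add, map_add, map_add]
      rw [Prod.ext_iff] at hx hy ⊢
      simp only [Prod.map_fst, Prod.map_snd, Prod.fst_add, Prod.snd_add, map_add] at hx hy ⊢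
      exact ⟨by rw [hx.1, hy.1], by rw [hx.2, hy.2]⟩
    | tmul b x => rfl
  rw [h1]
  exact (Function.Bijective.prodMap hs ht).comp (TensorProduct.prodRight A B B M N).bijective

end

/-- The base change map of a finite free module. -/
def freeS (κ : Type*) : (κ → A) →ₛₗ[algebraMap A B] (κ → B) where
  toFun f k := algebraMap A B (f k)
  map_add' x y := by ext k; simp
  map_smul' a x := by ext k; simp

theorem freeS_apply (κ : Type*) (f : κ → A) (k : κ) : freeS (B := B) κ f k = algebraMap A B (f k) := rfl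

theorem bijective_bc_freeS (κ : Type*) [Finite κ] : Function.Bijective (bc (freeS (A := A) (B := B) κ)) := by
  classical
  cases nonempty_fintype κ
  have h1 : (bc (freeS (A := A) (B := B) κ) : B ⊗[A] (κ → A) → κ → B) =
      TensorProduct.piScalarRight A B B κ := by
    funext x
    induction x using TensorProduct.induction_on with
    | zero => simp
    | add x y hx hy => rw [map_add, hx, hy, map_add]
    | tmul b x =>
      funext k
      rw [bc_tmul, TensorProduct.piScalarRight_apply, TensorProduct.piScalarRightHom_tmul]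
      change b * algebraMap A B (x k) = x k • b
      rw [Algebra.smul_def, mul_comm]
  rw [h1]
  exact (TensorProduct.piScalarRight A B B κ).bijective

end Prod

section BC

variable {A : Type u} [CommRing A] {C : ℕ → Type v} [∀ n, AddCommGroup (C n)]
  [∀ n, Module A (C n)] {d : ∀ n, C n →ₗ[A] C (n + 1)} {κ : ℕ → Type} [∀ n, Fintype (κ n)]
  {e : ∀ n, κ n → C (n + 1)} (h : IsHBasis d e)
  {B : Type w} [CommRing B] [Algebra A B] {C' : ℕ → Type*} [∀ n, AddCommGroup (C' n)]
  [∀ n, Module B (C' n)] {d' : ∀ n, C' n →ₗ[B] C' (n + 1)}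
  (s : ∀ n, C n →ₛₗ[algebraMap A B] C' n) (hs : ∀ n x, d' n (s n x) = s (n + 1) (d n x))
  (hbc : ∀ n, Function.Bijective (bc (s n)))

/-- The semilinear maps of the auxiliary complexes. -/
def sD (s : ∀ n, C n →ₛₗ[algebraMap A B] C' n) (n : ℕ) :
    ((κ n → A) × C n) →ₛₗ[algebraMap A B] ((κ n → B) × C' n) := prodS (freeS (κ n)) (s n)

include hs in
theorem sD_comm (n : ℕ) (x : (κ n → A) × C n) :
    dC d' (fun n k => s (n + 1) (e n k)) n (sD s n x) = sD s (n + 1) (dC d e n x) := by
  rw [dC_apply, dC_apply]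
  change _ = (freeS (κ (n + 1)) (0 : κ (n + 1) → A), s (n + 1) (∑ k, x.1 k • e n k + d n x.2))
  rw [map_zero, map_add, map_sum, ← hs]
  congr 2
  refine Finset.sum_congr rfl fun k _ => ?_
  rw [map_smulₛₗ]
  rfl

include h hs hbc in
/-- **Base change for complexes with finite free cohomology.** -/
theorem IsHBasis.baseChange (hflat : ∀ n, Module.Flat A (C n)) (N : ℕ)
    (hN : ∀ n, N ≤ n → Subsingleton (C n)) :
    IsHBasis d' (fun n k => s (n + 1) (e n k)) := by
  have hflat' : ∀ n, Module.Flat A ((κ n → A) × C n) := fun n => by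
    have := hflat n
    exact flat_prod
  have hN' : ∀ n, N ≤ n → Subsingleton ((κ n → A) × C n) := fun n hn => by
    have h1 := hN n hn
    have h2 := h.subsingleton n (hN (n + 1) (by omega))
    infer_instance
  have hbc' : ∀ n, Function.Bijective (bc (sD (κ := κ) s n)) := fun n =>
    bijective_bc_prodS (bijective_bc_freeS (κ n)) (hbc n)
  have hex := exact_of_bc (C := fun n => (κ n → A) × C n) (C' := fun n => (κ n → B) × C' n)
    (d := dC d e) (d' := dC d' (fun n k => s (n + 1) (e n k))) h.exact (sD s) (sD_comm s hs) hbc'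
    hflat' N hN'
  refine ⟨?_, ?_, ?_, ?_⟩
  · intro n x
    obtain ⟨x, rfl⟩ := (hbc n).2 x
    rw [bc_comm (s n) (s (n + 1)) (d n) (d' n) (hs n),
      bc_comm (s (n + 1)) (s (n + 2)) (d (n + 1)) (d' (n + 1)) (hs (n + 1)),
      ← LinearMap.lTensor_comp_apply, show d (n + 1) ∘ₗ d n = 0 from LinearMap.ext (h.dd n),
      LinearMap.lTensor_zero, LinearMap.zero_apply, map_zero]
  · intro n k
    rw [hs, h.closed, map_zero]
  · intro n z hz
    obtain ⟨⟨b, y⟩, hb⟩ := (hex n (0, z)).mp (by
      rw [dC_apply]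
      simp [hz])
    rw [dC_apply, Prod.mk.injEq] at hb
    exact ⟨b, y, hb.2.symm⟩
  · intro n b y hby
    obtain ⟨x, hx⟩ := (hbc' n).2 (b, y)
    have h1 : dC d' (fun n k => s (n + 1) (e n k)) n (b, y) = 0 := by
      rw [dC_apply, Prod.mk_eq_zero]
      exact ⟨rfl, hby⟩
    have h2 : (dC d e n).lTensor B x = 0 := by
      apply (hbc' (n + 1)).1
      rw [map_zero, ← h1, ← hx]
      exact (bc_comm (sD s n) (sD s (n + 1)) (dC d e n) (dC d' (fun n k => s (n + 1) (e n k)) n)
        (sD_comm s hs n) x).symm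
    obtain ⟨t, ht⟩ := exists_of_lTensor_eq_zero (C := fun n => (κ n → A) × C n) h.exact B hflat' N hN' n x h2
    have h3 : (LinearMap.fst A (κ n → A) (C n)).lTensor B x = 0 := by
      rw [← ht, ← LinearMap.lTensor_comp_apply]
      have h4 : LinearMap.fst A (κ n → A) (C n) ∘ₗ (LinearMap.ker (dC d e n)).subtype = 0 :=
        LinearMap.ext fun x => h.ker_le n x
      rw [h4, LinearMap.lTensor_zero, LinearMap.zero_apply]
    have h5 := congrArg Prod.fst (bc_prodS (freeS (κ n)) (s n) x)
    rw [h3, map_zero] at h5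
    have h6 : (bc (sD s n) x).1 = b := by rw [hx]
    exact h6.symm.trans h5

end BC

section Exists

variable {A : Type u} [CommRing A] {C : ℕ → Type v} [∀ n, AddCommGroup (C n)]
  [∀ n, Module A (C n)] (d : ∀ n, C n →ₗ[A] C (n + 1))

/-- Complexes with finite free cohomology have bases of cohomology. -/
theorem exists_hbasis (hdd : ∀ n x, d (n + 1) (d n x) = 0) {H : ℕ → Type w} [∀ n, AddCommGroup (H n)]
    [∀ n, Module A (H n)] (θ : ∀ n, LinearMap.ker (d (n + 1)) →ₗ[A] H n)
    (hθ : ∀ n, Function.Surjective (θ n)) (hker : ∀ n x, θ n x = 0 ↔ ∃ y, d n y = x.1)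
    (hfree : ∀ n, Module.Free A (H n)) (hfin : ∀ n, Module.Finite A (H n)) :
    ∃ (κ : ℕ → Type) (_ : ∀ n, Fintype (κ n)) (e : ∀ n, κ n → C (n + 1)), IsHBasis d e := by
  classical
  have h1 : ∀ n, ∃ (r : ℕ), Nonempty (Module.Basis (Fin r) A (H n)) := by
    intro n
    have := hfree n
    have := hfin n
    let b := Module.Free.chooseBasis A (H n)
    exact ⟨_, ⟨b.reindex (Fintype.equivFin _)⟩⟩
  choose r b using h1
  choose e he using fun n k => hθ n ((b n).some k)
  refine ⟨fun n => Fin (r n), fun n => inferInstance, fun n k => (e n k).1, hdd, fun n k => (e n k).2, ?_, ?_⟩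
  · intro n z hz
    have h2 : θ n (⟨z, hz⟩ - ∑ k, (b n).some.repr (θ n ⟨z, hz⟩) k • e n k) = 0 := by
      rw [map_sub, map_sum, sub_eq_zero]
      simp only [map_smul, he]
      exact ((b n).some.sum_repr _).symm
    obtain ⟨y, hy⟩ := (hker n _).mp h2
    refine ⟨(b n).some.repr (θ n ⟨z, hz⟩), y, ?_⟩
    rw [hy]
    simp
  · intro n c y hy
    have h2 : θ n (∑ k, c k • e n k) = 0 := by
      rw [hker]
      refine ⟨-y, ?_⟩
      rw [map_neg]
      simp only [Submodule.coe_sum, Submodule.coe_smul]
      exact (eq_neg_of_add_eq_zero_left hy).symm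
    rw [map_sum] at h2
    simp only [map_smul, he] at h2
    funext k
    have h3 := congrArg (fun x => (b n).some.repr x k) h2
    simpa [Finsupp.single_apply] using h3

end Exists

namespace IsHBasis

section

variable {A : Type u} [CommRing A] {C : ℕ → Type v} [∀ n, AddCommGroup (C n)]
  [∀ n, Module A (C n)] {d : ∀ n, C n →ₗ[A] C (n + 1)} {κ : ℕ → Type} [∀ n, Fintype (κ n)]
  {e : ∀ n, κ n → C (n + 1)} (h : IsHBasis d e)

include h

theorem exists_iff (n : ℕ) (b : κ n → A) : (∃ y, d n y = ∑ k, b k • e n k) ↔ b = 0 := by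
  constructor
  · rintro ⟨y, hy⟩
    exact h.unique n b (-y) (by rw [← hy, map_neg, add_neg_cancel])
  · rintro rfl
    exact ⟨0, by simp⟩

theorem exists_unique_rep (n : ℕ) (z : C (n + 1)) (hz : d (n + 1) z = 0) :
    ∃! b : κ n → A, ∃ y : C n, z = ∑ k, b k • e n k + d n y := by
  obtain ⟨b, y, hb⟩ := h.exists_rep n z hz
  refine ⟨b, ⟨y, hb⟩, ?_⟩
  rintro b' ⟨y', hb'⟩
  rw [← sub_eq_zero]
  apply h.unique n (b' - b) (y' - y)
  rw [hb] at hb'
  simp only [Pi.sub_apply, sub_smul, Finset.sum_sub_distrib, map_sub]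
  rw [sub_add_sub_comm, ← hb', sub_self]

end

end IsHBasis

end Groth.Agent.Pic13.H126.NilAlg
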