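import Groth.Agent.Pic13.H958.LocRig
import Groth.Agent.Pic13.H958.Kil
import Groth.Agent.Pic13.H557.RigGrp

/-!
# Invertible modules on a square-zero thickening trivialized on the subscheme, and additive cocycles

`i : Z₀ ⟶ Z` a closed immersion of square zero, `b : Z ⟶ W`, `U` a finite family of opens of `W` with affine inverse images.
`HasX q b U c x`: the class `c` of invertible modules on `Z` rigidified along `Z₀` has transition cocycle `1 + x`.
-/

set_option autoImplicit false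
set_option linter.unusedSectionVars false
universe u

open CategoryTheory CategoryTheory.Limits AlgebraicGeometry TopologicalSpace Opposite

namespace Groth.Agent.Pic13.H126.NilCls

open Groth.Agent.Fdesc Groth.Agent.Fdesc.LocGen Groth.Agent.Picfga Groth.Agent.Picfga.LineHom
  Groth.Agent.Picfga.LineDescent Groth.Agent.Picfga.LineFam
open Groth.Agent
open Groth.Agent.CohtopA.Sec (Γs)
open Groth.Agent.Pic13.H958.RelUnits Groth.Agent.Pic13.H602.Rig Groth.Agent.Pic13.H958.Coc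
open Groth.Agent.Pic13.H958.AffLift Groth.Agent.Pic13.H958.Ord Groth.Agent.Pic13.H958.Kil
open Groth.Agent.Pic13.H557.RigGrp Groth.Agent.Pic13.H557.RigMul
open Groth.Agent.Ega3B Cube CubeData CombRes CoefSys

section Single

variable {W Z Z₀ : Scheme.{u}} {i : Z₀ ⟶ Z}

/-- The quad of a square-zero thickening, rigidified along the subscheme. -/
theorem quad_self [IsClosedImmersion i]
    (hnil : ∀ {V : Z.Opens} (a a' : Γ(Z, V)), i.app V a = 0 → i.app V a' = 0 → a * a' = 0) :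
    Quad i i (𝟙 Z₀) (𝟙 Z₀) :=
  ⟨IsKernelPair.id_of_mono i, inferInstance, inferInstance, hnil⟩

variable (q : Quad i i (𝟙 Z₀) (𝟙 Z₀))

include q in
theorem exists_rigid_gen {V : Z.Opens} (hV : IsAffineOpen V) (R : RB i) : ∃ e : Γ(R.L, V), Rigid R e := by
  have := q.ci
  obtain ⟨s, hs⟩ := fam_surj hV R.inv R.ρ (one _)
  refine ⟨s, ?_, hs⟩
  rw [isGen_iff_forall_exists]
  intro x hx
  obtain ⟨U', g, hxU', hg⟩ := (isInvertible_iff R.L).1 R.inv x
  obtain ⟨V', hxV', hV'⟩ := Fga.SqZero.exists_affine (U := V ⊓ U') (x := x) ⟨hx, hxU'⟩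
  have hV1 : V'.1 ≤ V := hV'.trans inf_le_left
  have hV2 : V'.1 ≤ U' := hV'.trans inf_le_right
  refine ⟨V'.1, hV1, hxV', ?_⟩
  obtain ⟨a, ha⟩ := exists_smul hg hV2 (LocGen.res R.L hV1 s)
  rw [← ha]
  refine (hg.res hV2).unit_smul (q.isUnit_of_app V'.2 ?_)
  have hg' := R.ρ.gen (hg.res hV2)
  refine hg'.isUnit_of_smul ?_
  rw [← R.ρ.smul, ha, R.ρ.res, hs, res_one]
  exact isGen_one _

theorem relUnits_self_eq_zero (b : Z₀ ⟶ W) {V : W.Opens} (s : Γs (relUnits b (𝟙 Z₀)) V) : s = 0 := by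
  apply rval_injective
  apply Units.ext
  rw [rval_zero, Units.val_one]
  have h1 := app_rval b (𝟙 Z₀) s
  rw [Scheme.Hom.id_app] at h1
  exact h1

variable (b : Z ⟶ W) {ι : Type} [LinearOrder ι] [Fintype ι] (U : ι → W.Opens)

/-- The class `c` has transition cocycle `1 + x`. -/
def HasX (c : RCl i) (x : (cech U).K 1 (KP b i i)) : Prop :=
  ∃ R : RB i, R.cls = c ∧ ∃ e : ∀ a, Γ(R.L, b ⁻¹ᵁ U a), (∀ a, Rigid R (e a)) ∧
    Tr b i U R e ((cech U).Kmap 1 (expP q b) x)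

variable {U}

theorem exists_hasX (hU : ∀ a, IsAffineOpen (b ⁻¹ᵁ U a)) (c : RCl i) :
    ∃ x, HasX q b U c x ∧ (cech U).δ 1 _ x = 0 := by
  obtain ⟨R, rfl⟩ := c.exists_rep
  choose e he using fun a => exists_rigid_gen q (hU a) R
  obtain ⟨c, hc, htr⟩ := exists_tr' e he
  obtain ⟨x, rfl⟩ := exists_Kmap_exp q b U 1 c (by
    funext B
    exact relUnits_self_eq_zero _ _)
  refine ⟨x, ⟨R, rfl, e, he, htr⟩, ?_⟩
  apply Kmap_exp_injective q b U 2
  rw [map_zero, ← Data.δ_naturality]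
  exact hc

theorem exists_of_hasX (hU : ⨆ a, U a = ⊤) (x : (cech U).K 1 (KP b i i)) (hx : (cech U).δ 1 _ x = 0) :
    ∃ c, HasX q b U c x := by
  obtain ⟨R, e, he, htr⟩ := exists_of_cocycle (b := b) (σ := i) hU ((cech U).Kmap 1 (expP q b) x) (by
    rw [Data.δ_naturality, hx, map_zero])
  exact ⟨R.cls, R, rfl, e, he, htr⟩

theorem hasX_eq_iff (hU : ⨆ a, U a = ⊤) {c c' : RCl i} {x x' : (cech U).K 1 (KP b i i)}
    (h : HasX q b U c x) (h' : HasX q b U c' x') :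
    c = c' ↔ ∃ y, x' = x - (cech U).δ 0 _ y := by
  obtain ⟨R, rfl, e, he, htr⟩ := h
  obtain ⟨R', rfl, e', he', htr'⟩ := h'
  rw [RB.cls_eq_iff, rel_iff hU he he' htr htr']
  constructor
  · rintro ⟨y, hy⟩
    obtain ⟨y, rfl⟩ := exists_Kmap_exp q b U 0 y (by
      funext B
      exact relUnits_self_eq_zero _ _)
    refine ⟨y, ?_⟩
    apply Kmap_exp_injective q b U 1
    rw [hy, map_sub, Data.δ_naturality]
  · rintro ⟨y, rfl⟩
    exact ⟨(cech U).Kmap 0 (expP q b) y, by rw [map_sub, Data.δ_naturality]⟩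

/-- Additivity. -/
theorem HasX.mul {c c' : RCl i} {x x' : (cech U).K 1 (KP b i i)} (h : HasX q b U c x) (h' : HasX q b U c' x') :
    HasX q b U (c * c') (x + x') := by
  obtain ⟨R, rfl, e, he, htr⟩ := h
  obtain ⟨R', rfl, e', he', htr'⟩ := h'
  obtain ⟨R₃, hR⟩ := exists_mul R R'
  refine ⟨R₃, (mul_eq_iff.2 hR).symm, ?_⟩
  obtain ⟨B, hB⟩ := hR
  refine ⟨fun a => B.map (e a) (e' a), fun a => ⟨B.gen (he a).1 (he' a).1, ?_⟩, ?_⟩
  · rw [← ofFun_v, hB]
    have h1 : v R (e a) = 1 := by rw [v, (he a).2]; rfl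
    have h2 : v R' (e' a) = 1 := by rw [v, (he' a).2]; rfl
    rw [h1, h2, mul_one]
    rfl
  · intro a a' h T ha ha'
    have e1 := htr a a' h T ha ha'
    have e2 := htr' a a' h T ha ha'
    have e3 : rs (relUnits b i).obj (le_pr U h ha ha')
        ((cech U).Kmap 1 (expP q b) (x + x') (pr a a' h)) =
        rs (relUnits b i).obj (le_pr U h ha ha') ((cech U).Kmap 1 (expP q b) x (pr a a' h)) +
        rs (relUnits b i).obj (le_pr U h ha ha') ((cech U).Kmap 1 (expP q b) x' (pr a a' h)) := by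
      rw [map_add]
      exact map_add (rs (relUnits b i).obj (le_pr U h ha ha')) _ _
    rw [e3, rval_add, Units.val_mul, ← B.res, ← B.res, e1, e2, B.smul]

end Single

section Pull

variable {W Z₁ Z₀₁ Z₂ Z₀₂ : Scheme.{u}} {i₁ : Z₀₁ ⟶ Z₁} {i₂ : Z₀₂ ⟶ Z₂}
  (q₁ : Quad i₁ i₁ (𝟙 Z₀₁) (𝟙 Z₀₁)) (q₂ : Quad i₂ i₂ (𝟙 Z₀₂) (𝟙 Z₀₂)) {b₁ : Z₁ ⟶ W} {b₂ : Z₂ ⟶ W}
  (p : PairHom b₁ i₁ b₂ i₂)

/-- The induced morphism of the pairs with identity rigidifications. -/
def pairId : PairHom (i₁ ≫ b₁) (𝟙 Z₀₁) (i₂ ≫ b₂) (𝟙 Z₀₂) where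
  h := p.k
  k := p.k
  w := by rw [← Category.assoc, p.sq, Category.assoc, p.w]
  sq := by rw [Category.id_comp, Category.comp_id]

variable {ι : Type} [LinearOrder ι] [Fintype ι] {U : ι → W.Opens}

/-- Functoriality. -/
theorem HasX.pull {c : RCl i₁} {x : (cech U).K 1 (KP b₁ i₁ i₁)} (h : HasX q₁ b₁ U c x) :
    HasX q₂ b₂ U (RCl.pull p.sq.symm c)
      ((cech U).Kmap 1 (kP p (pairId p) (i₁ := i₁) (i₂ := i₂) p.sq) x) := by
  obtain ⟨R, rfl, e, he, htr⟩ := h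
  obtain ⟨R', ⟨A⟩⟩ := exists_pull R p.sq.symm
  refine ⟨R', A.pull_eq.symm, _, fun a => (he a).arr_on p A, ?_⟩
  have h1 := htr.arr p A
  have h4 : (cech U).Kmap 1 (relMap p).hom ((cech U).Kmap 1 (expP q₁ b₁) x) =
      (cech U).Kmap 1 (expP q₂ b₂) ((cech U).Kmap 1 (kP p (pairId p) p.sq) x) :=
    congrArg (fun f => (cech U).Kmap 1 f x) (exp_comm q₁ q₂ p (pairId p) p.sq)
  rw [h4] at h1
  exact h1

end Pull

end Groth.Agent.Pic13.H126.NilCls
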