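import Groth.Agent.Pic13.H126.NilSq
import Mathlib.AlgebraicGeometry.Limits

/-!
# The empty rigidifier

Invertible modules rigidified along the empty scheme are invertible modules.
-/

set_option autoImplicit false
universe w u

open CategoryTheory CategoryTheory.Limits AlgebraicGeometry Opposite

namespace Groth.Agent.Pic13.H126.NilEmp

open Groth.Agent.Grpsch.PicGrp
open Groth.Agent.Pic13.H602.Rig Groth.Agent.Pic13.H557.RigGrp Groth.Agent.Pic13.H958.AffLift
open Groth.Agent.Pic13.H126.NilSq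

variable {Z Z₀ : Scheme.{u}}

/-- The empty square is cartesian. -/
theorem isPullback_empty (i : Z₀ ⟶ Z) :
    IsPullback (𝟙 (∅ : Scheme.{u})) Z₀.emptyTo Z.emptyTo i := by
  refine ⟨⟨Scheme.empty_ext _ _⟩, ⟨PullbackCone.IsLimit.mk _ (fun s => s.fst) (fun s => Category.comp_id _)
    (fun s => ?_) (fun s m h1 _ => ?_)⟩⟩
  · have h : IsEmpty s.pt := Function.isEmpty s.fst
    have h1 : IsIso (Scheme.emptyTo s.pt) := inferInstance
    rw [← cancel_epi (Scheme.emptyTo s.pt)]
    exact Scheme.empty_ext _ _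
  · rw [← h1]
    exact (Category.comp_id _).symm

/-- The quad of a square-zero thickening with the empty rigidifier. -/
theorem quadE {i : Z₀ ⟶ Z} [IsClosedImmersion i] (hsq : i.ker ^ 2 = ⊥) :
    Quad i Z.emptyTo Z₀.emptyTo (𝟙 ∅) :=
  ⟨isPullback_empty i, inferInstance, inferInstance, fun a a' ha ha' => mul_eq_zero hsq a a' ha ha'⟩

/-- Modules on the empty scheme. -/
theorem isZero_of_isEmpty {X : Scheme.{u}} [IsEmpty X] (M : X.Modules) : Limits.IsZero M := by
  rw [Limits.IsZero.iff_id_eq_zero]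
  apply Scheme.Modules.hom_ext
  intro U
  ext m
  have h : ∀ s t : Γ(M, U), s = t := by
    intro s t
    refine TopCat.Sheaf.eq_of_locally_eq' ⟨_, M.isSheaf⟩ (fun i : PEmpty.{u+1} => i.elim) U
      (fun i : PEmpty.{u+1} => i.elim) ?_ _ _ (fun i : PEmpty.{u+1} => i.elim)
    intro x
    exact isEmptyElim x
  exact h _ _

theorem pic_subsingleton {X : Scheme.{u}} [IsEmpty X] (c : Pic X) : c = 1 := by
  obtain ⟨L, hL, rfl⟩ := exists_mk c
  rw [mk_eq_one_iff]
  exact ⟨(isZero_of_isEmpty L).iso (isZero_of_isEmpty _)⟩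

theorem toPic_injective : Function.Injective (toPic (Scheme.emptyTo Z)) := by
  rw [injective_iff_map_eq_one]
  intro c hc
  obtain ⟨u, rfl⟩ := toPic_eq_one_iff.1 hc
  have : u = 1 := Units.ext (Subsingleton.elim _ _)
  rw [this, map_one]

theorem toPic_surjective : Function.Surjective (toPic (Scheme.emptyTo Z)) := fun _ =>
  exists_toPic (pic_subsingleton _)

/-- Lifts of a class are lifts of modules. -/
theorem lift_iff {i : Z₀ ⟶ Z} (w : Z₀.emptyTo ≫ i = 𝟙 ∅ ≫ Z.emptyTo) (R₀ : RB (Scheme.emptyTo Z₀)) :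
    (∃ c : Pic Z, pull i c = toPic _ R₀.cls) ↔ ∃ R : RB (Scheme.emptyTo Z), Nonempty (Arr w R R₀) := by
  constructor
  · rintro ⟨c, hc⟩
    obtain ⟨c', rfl⟩ := toPic_surjective c
    obtain ⟨R, rfl⟩ := c'.exists_rep
    refine ⟨R, RCl.pull_eq_iff.1 (toPic_injective ?_)⟩
    rw [toPic_pull, hc]
  · rintro ⟨R, hR⟩
    refine ⟨toPic _ R.cls, ?_⟩
    rw [← toPic_pull w, RCl.pull_eq_iff.2 hR]

end Groth.Agent.Pic13.H126.NilEmp
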