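import Groth.Agent.Pic13.H126.NilCls
import Groth.Agent.Fga.SqZero
import Groth.Agent.Divis.IdealComap

/-!
# Square-zero closed immersions and base change
-/

set_option autoImplicit false
universe u

open CategoryTheory CategoryTheory.Limits AlgebraicGeometry Opposite TopologicalSpace

namespace Groth.Agent.Pic13.H126.NilSq

open Groth.Agent
open Groth.Agent.Fdesc.LocGen Groth.Agent.Pic13.H958.AffLift Groth.Agent.Pic13.H126.NilCls
open Groth.Agent.Grpsch Groth.Agent.Pic13.H602.Rig Groth.Agent.Pic13.H557.RigGrp Groth.Agent.Picfga.LineHom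

variable {X₀ X X₀' X' : Scheme.{u}} {i : X₀ ⟶ X} {i' : X₀' ⟶ X'} {g : X' ⟶ X} {g₀ : X₀' ⟶ X₀}

theorem app_eq_zero_iff_subschemeι (i : X₀ ⟶ X) [IsClosedImmersion i] {V : X.Opens} (a : Γ(X, V)) :
    i.app V a = 0 ↔ i.ker.subschemeι.app V a = 0 := by
  have h1 : i.toImage ≫ i.imageι = i := i.toImage_imageι
  have h3 : i.app V a = 0 ↔ (i.toImage ≫ i.imageι).app V a = 0 := by
    constructor
    · intro h
      have h4 : (i.toImage ≫ i.imageι).appLE V ((i.toImage ≫ i.imageι) ⁻¹ᵁ V) le_rfl a =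
          i.appLE V ((i.toImage ≫ i.imageι) ⁻¹ᵁ V) (by rw [h1]) a := by
        simp only [h1]
      rw [← Scheme.Hom.appLE_eq_app, h4, Scheme.Hom.appLE, CommRingCat.comp_apply, h, map_zero]
    · intro h
      have h4 : i.appLE V (i ⁻¹ᵁ V) le_rfl a =
          (i.toImage ≫ i.imageι).appLE V (i ⁻¹ᵁ V) (by rw [h1]) a := by
        simp only [h1]
      rw [← Scheme.Hom.appLE_eq_app, h4, Scheme.Hom.appLE, CommRingCat.comp_apply, h, map_zero]
  have h6 : (i.toImage ≫ i.imageι).app V a = i.toImage.app (i.imageι ⁻¹ᵁ V) (i.imageι.app V a) := by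
    have h7 := Scheme.Hom.comp_app i.toImage i.imageι V
    exact congr(($h7).hom a)
  rw [h3, h6]
  constructor
  · intro h
    have h4 : Function.Injective (i.toImage.app (i.imageι ⁻¹ᵁ V)) :=
      (ConcreteCategory.bijective_of_isIso (i.toImage.app (i.imageι ⁻¹ᵁ V))).1
    exact h4 (h.trans (map_zero _).symm)
  · intro h
    have h5 : i.imageι.app V a = 0 := h
    rw [h5, map_zero]
    rfl

theorem mul_eq_zero [IsClosedImmersion i] (hsq : i.ker ^ 2 = ⊥) {V : X.Opens} (a a' : Γ(X, V))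
    (ha : i.app V a = 0) (ha' : i.app V a' = 0) : a * a' = 0 :=
  Fga.SqZero.mul_eq_zero i.ker hsq a a' ((app_eq_zero_iff_subschemeι i a).1 ha)
    ((app_eq_zero_iff_subschemeι i a').1 ha')

/-- The quad of a square-zero thickening. -/
theorem quad [IsClosedImmersion i] (hsq : i.ker ^ 2 = ⊥) : Quad i i (𝟙 X₀) (𝟙 X₀) :=
  quad_self fun a a' ha ha' => mul_eq_zero hsq a a' ha ha'

/-- The kernel of the base change of a closed immersion. -/
theorem ker_eq_of_isPullback [IsClosedImmersion i] (H : IsPullback i' g₀ g i) :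
    i'.ker = i.ker.comap g := by
  rw [← Scheme.IdealSheafData.ker_fst_of_isClosedImmersion,
    ← Scheme.Hom.ker_comp_of_isIso H.isoPullback.hom, H.isoPullback_hom_fst]

theorem sq_of_isPullback [IsClosedImmersion i] (H : IsPullback i' g₀ g i) (hsq : i.ker ^ 2 = ⊥) :
    i'.ker ^ 2 = ⊥ := by
  rw [ker_eq_of_isPullback H, ← Divis.IdealComap.comap_pow, hsq, Scheme.IdealSheafData.comap_bot]

section Rig

variable {W Y : Scheme.{u}} {σ : W ⟶ Y}

/-- The underlying class of a rigidified module is trivial on the rigidifier. -/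
theorem pull_toPic (c : RCl σ) : PicGrp.pull σ (toPic σ c) = 1 := by
  obtain ⟨R, rfl⟩ := c.exists_rep
  rw [toPic_cls, PicGrp.pull_mk, PicGrp.mk_eq_one_iff]
  obtain ⟨ψ, -⟩ := R.ρ.exists_ofIso R.inv
  exact ⟨ψ⟩

/-- Classes trivial on the rigidifier are rigidified. -/
theorem exists_toPic {c : PicGrp.Pic Y} (hc : PicGrp.pull σ c = 1) : ∃ c' : RCl σ, toPic σ c' = c := by
  obtain ⟨L, hL, rfl⟩ := PicGrp.exists_mk c
  rw [PicGrp.pull_mk, PicGrp.mk_eq_one_iff] at hc
  obtain ⟨e⟩ := hc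
  exact ⟨RB.cls ⟨L, hL, Groth.Agent.Picfga.LineFam.Fam.ofIso e⟩, rfl⟩

end Rig

end Groth.Agent.Pic13.H126.NilSq
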