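import Groth.Agent.Pic13.H943.CFN
import Groth.Agent.Pic13.H945.IdealPull
import Groth.Agent.Fga.SqZero
import Groth.Agent.Pic13.H126.NilAlg
import Groth.Agent.Pic13.H126.NilSq

/-!
# Square-zero thickenings with flat, universally computed ideal cohomology

`NSit i f` for a closed immersion `i : X₀ ⟶ X` and `f : X ⟶ S`, `S` affine: `X₀` is flat over `S` and the ideal `N` of `X₀`
is coherent, flat over `S` with finite free cohomology. `NSit.bc`: stable under base change. `NSit.exists_hbasis`: for every
finite covering with affine intersections the ordered Čech complex of `N` has a basis of cohomology.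
-/

set_option autoImplicit false
universe u

open CategoryTheory CategoryTheory.Limits AlgebraicGeometry Opposite TopologicalSpace TensorProduct

namespace Groth.Agent.Pic13.H126.NilSit

open Groth.Agent.Pic13.H943 Groth.Agent.Pic13.H943.FlatBC Groth.Agent.Pic13.H943.ModH
open Groth.Agent.VarietyB.FlatH0 Groth.Agent.VarietyB.BCAlg
open Groth.Agent.Pic13.H945.IdealPull
open Groth.Agent.Pic13.H126.NilAlg Groth.Agent.Pic13.H126.NilSq

/-- Square-zero thickening data with good ideal cohomology (the condition on the square is not included). -/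
structure NSit {X₀ X S : Scheme.{u}} (i : X₀ ⟶ X) (f : X ⟶ S) : Prop where
  aff : IsAffine S
  ci : IsClosedImmersion i
  qc : QuasiCompact f
  sep : IsSeparated f
  flat₀ : Flat (i ≫ f)
  cfn : CFN f (ClSub.idealMod i.ker)
  free : ∀ p, letI := modH f (ClSub.idealMod i.ker) p
    Module.Free Γ(S, ⊤) (Coh.HH X (ClSub.idealMod i.ker) p)

variable {X₀ X S X₀' X' T : Scheme.{u}} {i : X₀ ⟶ X} {f : X ⟶ S} {i' : X₀' ⟶ X'} {f' : X' ⟶ T}
  {g : X' ⟶ X} {g₀ : X₀' ⟶ X₀} {j : T ⟶ S}

theorem flat_subschemeι [IsClosedImmersion i] [Flat (i ≫ f)] : Flat (i.ker.subschemeι ≫ f) := by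
  have h1 : i.toImage ≫ i.imageι = i := i.toImage_imageι
  have h2 : i.ker.subschemeι ≫ f = inv i.toImage ≫ i ≫ f := by
    rw [IsIso.eq_inv_comp]
    change i.toImage ≫ i.imageι ≫ f = _
    rw [← Category.assoc, h1]
  rw [h2]
  infer_instance

/-- Base change of the situation. -/
theorem NSit.bc (h : NSit i f) (H : IsPullback g f' f j) (H₀ : IsPullback i' g₀ g i) [IsAffine T] :
    NSit i' f' := by
  have := h.aff
  have := h.ci
  have := h.qc
  have := h.sep
  have := h.flat₀
  have hker := ker_eq_of_isPullback H₀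
  have hfl : Flat (i.ker.subschemeι ≫ f) := flat_subschemeι
  have hth := isIso_theta_of_flat_quot H i.ker
  have e : (Scheme.Modules.pullback g).obj (ClSub.idealMod i.ker) ≅ ClSub.idealMod i'.ker :=
    asIso (theta g i.ker) ≪≫ eqToIso (by rw [hker])
  have h1 := (h.cfn.bc H).congr e
  refine ⟨inferInstance, MorphismProperty.of_isPullback H₀.flip h.ci,
    MorphismProperty.of_isPullback H h.qc, MorphismProperty.of_isPullback H h.sep, ?_, h1, fun p => ?_⟩
  · exact MorphismProperty.of_isPullback (H₀.flip.paste_vert H) h.flat₀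
  · let i0 := algOver j (US := ⊤) (UT := ⊤) le_top
    let i1 := modH f (ClSub.idealMod i.ker) p
    let i2 := modH f' ((Scheme.Modules.pullback g).obj (ClSub.idealMod i.ker)) p
    let i3 := modH f' (ClSub.idealMod i'.ker) p
    obtain ⟨β, hβ⟩ := h.cfn.exists_bc H p
    have := h.free p
    have h2 : Module.Free Γ(T, ⊤) (Coh.HH X' ((Scheme.Modules.pullback g).obj (ClSub.idealMod i.ker)) p) :=
      Module.Free.of_equiv (LinearEquiv.ofBijective _ hβ)
    exact Module.Free.of_equiv (CFN.congrH f' e p)

section Basis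

open Groth.Agent.Ega3B Groth.Agent.Ega3B.CubeData Groth.Agent.Ega3B.CombRes Groth.Agent.Ega3B.CechBC

variable {ι : Type} [LinearOrder ι] [Fintype ι]

/-- Bases of the Čech cohomology. -/
theorem NSit.exists_hbasis (h : NSit i f) (U : ι → X.Opens) (hcov : ⨆ i, U i = ⊤)
    (hU : ∀ s : Finset ι, s.Nonempty → IsAffineOpen (s.inf U)) :
    letI := fun n => modC f (ClSub.idealMod i.ker) U n
    ∃ (κ : ℕ → Type) (_ : ∀ n, Fintype (κ n))
      (e : ∀ n, κ n → C (ClSub.idealMod i.ker) U (n + 1)),
      IsHBasis (C := fun n => C (ClSub.idealMod i.ker) U n) (d f (ClSub.idealMod i.ker) U) e := by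
  let i1 := fun n => modC f (ClSub.idealMod i.ker) U n
  let i2 := fun n => modH f (ClSub.idealMod i.ker) (n + 1)
  have hF := h.cfn.coh.1
  refine NilAlg.exists_hbasis (C := fun n => C (ClSub.idealMod i.ker) U n) (d f (ClSub.idealMod i.ker) U)
    (fun n y => (cech (X := X.toPresheafedSpace.carrier) U).δ_δ n y)
    (H := fun n => Coh.HH X (ClSub.idealMod i.ker) (n + 1))
    (fun n => thetaL f (ClSub.idealMod i.ker) U hcov (n + 1))
    (fun n => thetaL_surjective f _ hF U hcov hU (n + 1)) (fun n x => ?_)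
    (fun n => h.free (n + 1)) (fun n => h.cfn.fin (n + 1))
  exact thetaL_eq_zero_iff f _ hF U hcov hU (n + 1) x

end Basis

end Groth.Agent.Pic13.H126.NilSit
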