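import Groth.Agent.Pic13.H958.Kil
import Groth.Agent.Pic13.H126.NilSit

/-!
# Cochains of functions vanishing on a closed subscheme, as modules over the base

`KP b i σ` as a presheaf of `Γ(T, ⊤)`-modules for `τ : Z ⟶ T` (`kmod`), the ordered Čech complex (`modK`, `dK`), the map
from the Čech complex of the ideal module on the base (`psi`, `psiS`) and `isHBasis_KP`.
-/

set_option autoImplicit false
set_option linter.unusedSectionVars false
universe u

open CategoryTheory CategoryTheory.Limits AlgebraicGeometry Opposite TopologicalSpace TensorProduct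

namespace Groth.Agent.Pic13.H126.NilKP

open Groth.Agent
open Groth.Agent.Pic13.H958.Kil Groth.Agent.Pic13.H958.Ord
open Groth.Agent.Fdesc Groth.Agent.Fdesc.LocGen Groth.Agent.Picfga.LineHom
open Groth.Agent.Picfga.LineFam (app_congr)
open Groth.Agent.VarietyB.FlatH0 Groth.Agent.VarietyB.BCAlg
open Groth.Agent.Pic13.H945.IdealPull
open Groth.Agent.Pic13.H126.NilAlg Groth.Agent.Pic13.H126.NilSit Groth.Agent.Pic13.H126.NilSq
open Groth.Agent.Ega3B Groth.Agent.Ega3B.CubeData Groth.Agent.Ega3B.CombRes Groth.Agent.Ega3B.Cube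

section Dict

variable {Z Z₀ : Scheme.{u}} (i : Z₀ ⟶ Z) [IsClosedImmersion i]

/-- Functions killed by a closed immersion are the sections of the ideal. -/
theorem app_eq_zero_iff {V : Z.Opens} (a : Γ(Z, V)) :
    i.app V a = 0 ↔ ∃ x : Γ(ClSub.idealMod i.ker, V), PerfA.IdealModule.val i.ker x = a := by
  rw [NilSq.app_eq_zero_iff_subschemeι]
  exact (PerfA.IdealModule.exact_app i.ker V a)

end Dict

section Mod

variable {W Z Z₀ Y T : Scheme.{u}} (b : Z ⟶ W) (i : Z₀ ⟶ Z) (σ : Y ⟶ Z) (τ : Z ⟶ T)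

/-- Functions of the base on the opens. -/
noncomputable abbrev sc (U : W.Opens) : Γ(T, ⊤) →+* Γ(Z, b ⁻¹ᵁ U) :=
  (τ.appLE ⊤ (b ⁻¹ᵁ U) le_top).hom

/-- Scalar multiplication on sections. -/
noncomputable def scalA (r : Γ(T, ⊤)) (U : W.Opens) : (KP b i σ).obj (op U) →+ (KP b i σ).obj (op U) where
  toFun x := kmk (sc b τ U r * kval x)
    (by rw [map_mul, app_kval₀, mul_zero]) (by rw [map_mul, app_kval, mul_zero])
  map_zero' := by
    apply kval_injective
    rw [kval_kmk, kval_zero, mul_zero]
  map_add' x y := by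
    apply kval_injective
    rw [kval_kmk, kval_add, kval_add, kval_kmk, kval_kmk]
    exact mul_add _ _ _

/-- Scalar multiplication. -/
noncomputable def scal (r : Γ(T, ⊤)) : KP b i σ ⟶ KP b i σ where
  app U := AddCommGrpCat.ofHom (scalA b i σ τ r U.unop)
  naturality U U' h := by
    ext x
    apply kval_injective
    change kval (scalA b i σ τ r U'.unop (rs (KP b i σ) (leOfHom h.unop) x)) =
      kval (rs (KP b i σ) (leOfHom h.unop) (scalA b i σ τ r U.unop x))
    rw [kval_rs]
    change sc b τ U'.unop r * kval (rs (KP b i σ) (leOfHom h.unop) x) = ores _ (sc b τ U.unop r * kval x)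
    rw [kval_rs, map_mul]
    congr 1
    change τ.appLE ⊤ (b ⁻¹ᵁ U'.unop) le_top r = (τ.appLE ⊤ (b ⁻¹ᵁ U.unop) le_top ≫ Z.presheaf.map _) r
    rw [Scheme.Hom.appLE_map]

theorem kval_scal {U : W.Opens} (r : Γ(T, ⊤)) (x : (KP b i σ).obj (op U)) :
    kval ((scal b i σ τ r).app (op U) x) = sc b τ U r * kval x := rfl

/-- `KP` as a presheaf of modules over the functions of `T`. -/
noncomputable abbrev kmod (U : W.Opens) : Module Γ(T, ⊤) ((KP b i σ).obj (op U)) where
  smul r x := (scal b i σ τ r).app (op U) x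
  one_smul x := by
    apply kval_injective
    change kval ((scal b i σ τ 1).app (op U) x) = _
    rw [kval_scal, map_one, one_mul]
  mul_smul r s x := by
    apply kval_injective
    change kval ((scal b i σ τ (r * s)).app (op U) x) =
      kval ((scal b i σ τ r).app (op U) ((scal b i σ τ s).app (op U) x))
    rw [kval_scal, kval_scal, kval_scal, map_mul, mul_assoc]
  smul_zero r := map_zero ((scal b i σ τ r).app (op U)).hom
  smul_add r x y := map_add ((scal b i σ τ r).app (op U)).hom x y
  add_smul r s x := by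
    apply kval_injective
    change kval ((scal b i σ τ (r + s)).app (op U) x) =
      kval ((scal b i σ τ r).app (op U) x + (scal b i σ τ s).app (op U) x)
    rw [kval_scal, kval_add, kval_scal, kval_scal, map_add, add_mul]
  zero_smul x := by
    apply kval_injective
    change kval ((scal b i σ τ 0).app (op U) x) = kval 0
    rw [kval_scal, map_zero, zero_mul, kval_zero]

variable {ι : Type} [LinearOrder ι] [Fintype ι] (U : ι → W.Opens)

/-- Cochains as modules. -/
noncomputable abbrev modK (n : ℕ) : Module Γ(T, ⊤) ((cech U).K n (KP b i σ)) :=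
  letI := fun B : (cech (X := W.toPresheafedSpace.carrier) U).B n =>
    kmod b i σ τ ((cech (X := W.toPresheafedSpace.carrier) U).W n B)
  inferInstanceAs (Module Γ(T, ⊤) (∀ B : (cech (X := W.toPresheafedSpace.carrier) U).B n,
    (KP b i σ).obj (op ((cech (X := W.toPresheafedSpace.carrier) U).W n B))))

theorem smul_eq (n : ℕ) (r : Γ(T, ⊤)) (x : (cech U).K n (KP b i σ)) :
    letI := modK b i σ τ U n
    r • x = (cech U).Kmap n (scal b i σ τ r) x := rfl

/-- The differential, linearly over the functions of `T`. -/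
noncomputable def dK (n : ℕ) :
    letI := modK b i σ τ U n
    letI := modK b i σ τ U (n + 1)
    (cech U).K n (KP b i σ) →ₗ[Γ(T, ⊤)] (cech U).K (n + 1) (KP b i σ) :=
  letI := modK b i σ τ U n
  letI := modK b i σ τ U (n + 1)
  { toFun := (cech U).δ n (KP b i σ)
    map_add' := map_add _
    map_smul' := fun r x => by
      rw [smul_eq]
      exact (cech U).δ_naturality n (scal b i σ τ r) x }

theorem dK_apply (n : ℕ) (x : (cech U).K n (KP b i σ)) :
    letI := modK b i σ τ U n
    letI := modK b i σ τ U (n + 1)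
    dK b i σ τ U n x = (cech U).δ n (KP b i σ) x := rfl

end Mod

section Psi

variable {X₀ X S Z Z₀ Y T : Scheme.{u}} {i₀ : X₀ ⟶ X} [IsClosedImmersion i₀] {f : X ⟶ S}
  {i : Z₀ ⟶ Z} {σ : Y ⟶ Z} {τ : Z ⟶ T} {g : Z ⟶ X} {g₀ : Z₀ ⟶ X₀} {j : T ⟶ S}
  (w : i ≫ g = g₀ ≫ i₀) (hσ : ∀ (V : Z.Opens) (a : Γ(Z, V)), i.app V a = 0 → σ.app V a = 0)

include w in
theorem app_app_val {V : X.Opens} (x : Γ(ClSub.idealMod i₀.ker, V)) :
    i.app (g ⁻¹ᵁ V) (g.app V (PerfA.IdealModule.val i₀.ker x)) = 0 := by
  have h1 : i₀.app V (PerfA.IdealModule.val i₀.ker x) = 0 := (app_eq_zero_iff i₀ _).2 ⟨x, rfl⟩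
  have e1 : (i ≫ g).app V (PerfA.IdealModule.val i₀.ker x) =
      i.app (g ⁻¹ᵁ V) (g.app V (PerfA.IdealModule.val i₀.ker x)) := by
    have h7 := Scheme.Hom.comp_app i g V
    exact congr(($h7).hom (PerfA.IdealModule.val i₀.ker x))
  have e2 : (g₀ ≫ i₀).app V (PerfA.IdealModule.val i₀.ker x) = 0 := by
    have h7 := Scheme.Hom.comp_app g₀ i₀ V
    refine (congr(($h7).hom (PerfA.IdealModule.val i₀.ker x))).trans ?_
    change g₀.app _ (i₀.app V (PerfA.IdealModule.val i₀.ker x)) = 0
    rw [h1, map_zero]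
  rw [← e1]
  exact (app_congr w _).trans (by rw [e2]; exact map_zero _)

/-- The map from the ideal module on the base, on sections. -/
noncomputable def psiA (U : X.Opens) : Γ(ClSub.idealMod i₀.ker, U) →+ (KP g i σ).obj (op U) where
  toFun x := kmk (g.app U (PerfA.IdealModule.val i₀.ker x)) (app_app_val w x) (hσ _ _ (app_app_val w x))
  map_zero' := by
    apply kval_injective
    rw [kval_kmk, kval_zero]
    exact (congrArg (g.app U) (PerfA.IdealModule.val_zero i₀.ker)).trans (map_zero _)
  map_add' x y := by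
    apply kval_injective
    rw [kval_kmk, kval_add, kval_kmk, kval_kmk]
    exact (congrArg (g.app U) (Fga.SqZero.ival_add i₀.ker x y)).trans (map_add _ _ _)

/-- The map from the ideal module on the base. -/
noncomputable def psi : (Coh.toAb (ClSub.idealMod i₀.ker)).obj ⟶ KP g i σ where
  app U := AddCommGrpCat.ofHom (psiA w hσ U.unop)
  naturality U U' h := by
    ext x
    apply kval_injective
    change g.app U'.unop (PerfA.IdealModule.val i₀.ker (V := U'.unop)
        ((ClSub.idealMod i₀.ker).presheaf.map h x)) =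
      ores _ (g.app U.unop (PerfA.IdealModule.val i₀.ker (V := U.unop) x))
    have h1 : PerfA.IdealModule.val i₀.ker (V := U'.unop) ((ClSub.idealMod i₀.ker).presheaf.map h x) =
        ores (leOfHom h.unop) (PerfA.IdealModule.val i₀.ker (V := U.unop) x) :=
      PerfA.IdealModule.val_res i₀.ker (leOfHom h.unop) (U := U.unop) (V := U'.unop) x
    rw [h1, Groth.Agent.Picfga.LineDescent.app_ores]

theorem kval_psi {V : X.Opens} (x : Γ(ClSub.idealMod i₀.ker, V)) :
    kval ((psi w hσ).app (op V) x) = g.app V (PerfA.IdealModule.val i₀.ker x) := rfl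

variable {ι : Type} [LinearOrder ι] [Fintype ι] (U : ι → X.Opens)

/-- The semilinear map on sections. -/
noncomputable def psiV (wT : g ≫ f = τ ≫ j) (V : X.Opens) :
    letI := algOver j (US := ⊤) (UT := ⊤) le_top
    letI := CechBC.modV f (ClSub.idealMod i₀.ker) V
    letI := kmod g i σ τ V
    Γ(ClSub.idealMod i₀.ker, V) →ₛₗ[algebraMap Γ(S, ⊤) Γ(T, ⊤)] (KP g i σ).obj (op V) :=
  letI := algOver j (US := ⊤) (UT := ⊤) le_top
  letI := CechBC.modV f (ClSub.idealMod i₀.ker) V
  letI := kmod g i σ τ V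
  { toFun := (psi w hσ).app (op V)
    map_add' := map_add ((psi w hσ).app (op V)).hom
    map_smul' := fun r x => by
      apply kval_injective
      change kval ((psi w hσ).app (op V) (f.appLE ⊤ V le_top r • x)) =
        kval ((scal g i σ τ (j.appLE ⊤ ⊤ le_top r)).app (op V) ((psi w hσ).app (op V) x))
      rw [kval_psi, kval_scal, kval_psi, PerfA.IdealModule.val_smul, map_mul]
      congr 1
      have h1 := appLE_comm wT (US := ⊤) (UT := ⊤) le_top (UX := V) le_top (UY := g ⁻¹ᵁ V) le_rfl le_top r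
      rw [Scheme.Hom.appLE_eq_app] at h1
      exact h1 }

/-- The semilinear map on cochains. -/
noncomputable def psiS (wT : g ≫ f = τ ≫ j) (n : ℕ) :
    letI := algOver j (US := ⊤) (UT := ⊤) le_top
    letI := CechBC.modC f (ClSub.idealMod i₀.ker) U n
    letI := modK g i σ τ U n
    CechBC.C (ClSub.idealMod i₀.ker) U n →ₛₗ[algebraMap Γ(S, ⊤) Γ(T, ⊤)] (cech U).K n (KP g i σ) :=
  letI := algOver j (US := ⊤) (UT := ⊤) le_top
  letI := fun b : (cech (X := X.toPresheafedSpace.carrier) U).B n =>
    CechBC.modV f (ClSub.idealMod i₀.ker) ((cech (X := X.toPresheafedSpace.carrier) U).W n b)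
  letI := fun b : (cech (X := X.toPresheafedSpace.carrier) U).B n =>
    kmod g i σ τ ((cech (X := X.toPresheafedSpace.carrier) U).W n b)
  piS (N := fun b : (cech (X := X.toPresheafedSpace.carrier) U).B n =>
      Γ(ClSub.idealMod i₀.ker, (cech (X := X.toPresheafedSpace.carrier) U).W n b))
    (N' := fun b : (cech (X := X.toPresheafedSpace.carrier) U).B n =>
      (KP g i σ).obj (op ((cech (X := X.toPresheafedSpace.carrier) U).W n b)))
    (fun b => psiV w hσ wT _)

theorem psiS_apply (wT : g ≫ f = τ ≫ j) (n : ℕ) (x : CechBC.C (ClSub.idealMod i₀.ker) U n) :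
    letI := algOver j (US := ⊤) (UT := ⊤) le_top
    letI := CechBC.modC f (ClSub.idealMod i₀.ker) U n
    letI := modK g i σ τ U n
    psiS w hσ U wT n x = (cech U).Kmap n (psi w hσ) x := rfl

variable (hker : i.ker = i₀.ker.comap g) [IsClosedImmersion i]

include hker in
/-- Sections of the inverse image ideal are the functions killed by `i`. -/
theorem app_eq_zero_iff' {V : Z.Opens} (a : Γ(Z, V)) :
    i.app V a = 0 ↔ ∃ x : Γ(ClSub.idealMod (i₀.ker.comap g), V), PerfA.IdealModule.val (i₀.ker.comap g) x = a := by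
  rw [app_eq_zero_iff, hker]

include hker in
/-- Base change of sections over affine opens. -/
theorem bijective_bc_psiV (H : IsPullback g τ f j) [IsAffine S] [IsAffine T] [Flat (i₀ ≫ f)] {V : X.Opens}
    (hV : IsAffineOpen V) :
    letI := algOver j (US := ⊤) (UT := ⊤) le_top
    letI := CechBC.modV f (ClSub.idealMod i₀.ker) V
    letI := kmod g i σ τ V
    Function.Bijective (bc (psiV w hσ H.w V)) := by
  let j1 := algOver j (US := ⊤) (UT := ⊤) le_top
  let j2 := CechBC.modV f (ClSub.idealMod i₀.ker) V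
  let j3 := kmod g i σ τ V
  let j4 := modOver τ (ClSub.idealMod (i₀.ker.comap g)) (US := ⊤) (UX := g ⁻¹ᵁ V) le_top
  have hfl : Flat (i₀.ker.subschemeι ≫ f) := flat_subschemeι
  have h1 : Function.Bijective (bc (thS H.w i₀.ker (US := ⊤) (UT := ⊤) le_top (UX := V) le_top
      (UY := g ⁻¹ᵁ V) le_rfl le_top)) :=
    isBCI_affine_of_flat_quot H i₀.ker (US := ⊤) (UT := ⊤) le_top (UX := V) le_top (UY := g ⁻¹ᵁ V)
      (by rw [Scheme.Hom.preimage_top, inf_top_eq]) le_rfl le_top (isAffineOpen_top S) (isAffineOpen_top T) hV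
  let ε : Γ(ClSub.idealMod (i₀.ker.comap g), g ⁻¹ᵁ V) →ₗ[Γ(T, ⊤)] (KP g i σ).obj (op V) :=
    { toFun := fun x => kmk (PerfA.IdealModule.val (i₀.ker.comap g) x) ((app_eq_zero_iff' hker _).2 ⟨x, rfl⟩)
        (hσ _ _ ((app_eq_zero_iff' hker _).2 ⟨x, rfl⟩))
      map_add' := fun x y => by
        apply kval_injective
        rw [kval_kmk, kval_add, kval_kmk, kval_kmk]
        exact Fga.SqZero.ival_add (i₀.ker.comap g) x y
      map_smul' := fun r x => by
        apply kval_injective
        change PerfA.IdealModule.val (i₀.ker.comap g) (τ.appLE ⊤ (g ⁻¹ᵁ V) le_top r • x) =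
          kval ((scal g i σ τ r).app (op V) _)
        rw [kval_scal, PerfA.IdealModule.val_smul]
        rfl }
  have hε : Function.Bijective ε := by
    constructor
    · intro x y hxy
      exact PerfA.IdealModule.val_injective (i₀.ker.comap g) _ (congrArg kval hxy)
    · intro y
      obtain ⟨x, hx⟩ := (app_eq_zero_iff' hker _).1 (app_kval₀ y)
      exact ⟨x, kval_injective hx⟩
  have h2 : (bc (psiV w hσ H.w V) : _ → _) = ε ∘ bc (thS H.w i₀.ker (US := ⊤) (UT := ⊤) le_top (UX := V) le_top
      (UY := g ⁻¹ᵁ V) le_rfl le_top) := by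
    funext x
    have h3 := bc_comm (thS H.w i₀.ker (US := ⊤) (UT := ⊤) le_top (UX := V) le_top
      (UY := g ⁻¹ᵁ V) le_rfl le_top) (psiV w hσ H.w V) LinearMap.id ε (fun m => by
        apply kval_injective
        change PerfA.IdealModule.val (i₀.ker.comap g) (pullVal g i₀.ker (le_refl (g ⁻¹ᵁ V)) m) =
          g.app V (PerfA.IdealModule.val i₀.ker m)
        refine (val_pullVal g i₀.ker (le_refl (g ⁻¹ᵁ V)) m).trans ?_
        rw [Scheme.Hom.appLE_eq_app]
        rfl) x
    rw [LinearMap.lTensor_id, LinearMap.id_apply] at h3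
    exact h3.symm
  rw [h2]
  exact hε.comp h1

end Psi

section Main

variable {X₀ X S Z Z₀ Y T : Scheme.{u}} {i₀ : X₀ ⟶ X} {f : X ⟶ S}
  {i : Z₀ ⟶ Z} {σ : Y ⟶ Z} {τ : Z ⟶ T} {g : Z ⟶ X} {g₀ : Z₀ ⟶ X₀} {j : T ⟶ S}
  (hσ : ∀ (V : Z.Opens) (a : Γ(Z, V)), i.app V a = 0 → σ.app V a = 0)
  {ι : Type} [LinearOrder ι] [Fintype ι] {U : ι → X.Opens}

/-- **Bases of the Čech cohomology after base change.** -/
theorem isHBasis (h : NSit i₀ f) (H : IsPullback g τ f j) (H₀ : IsPullback i g₀ g i₀) [IsAffine T]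
    (hU : ∀ s : Finset ι, s.Nonempty → IsAffineOpen (s.inf U)) {κ : ℕ → Type} [∀ n, Fintype (κ n)]
    {e : ∀ n, κ n → CechBC.C (ClSub.idealMod i₀.ker) U (n + 1)}
    (he : letI := fun n => CechBC.modC f (ClSub.idealMod i₀.ker) U n
      IsHBasis (C := fun n => CechBC.C (ClSub.idealMod i₀.ker) U n)
        (CechBC.d f (ClSub.idealMod i₀.ker) U) e) :
    letI := fun n => modK g i σ τ U n
    haveI := h.ci
    IsHBasis (C := fun n => (cech U).K n (KP g i σ)) (dK g i σ τ U)
      (fun n k => (cech U).Kmap (n + 1) (psi H₀.w hσ) (e n k)) := by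
  have := h.aff
  have := h.ci
  have := h.flat₀
  have hci : IsClosedImmersion i := MorphismProperty.of_isPullback H₀.flip h.ci
  have hker := ker_eq_of_isPullback H₀
  let j1 := algOver j (US := ⊤) (UT := ⊤) le_top
  let j2 := fun n => CechBC.modC f (ClSub.idealMod i₀.ker) U n
  let j3 := fun n => modK g i σ τ U n
  exact IsHBasis.baseChange (C := fun n => CechBC.C (ClSub.idealMod i₀.ker) U n)
    (C' := fun n => (cech U).K n (KP g i σ)) he (fun n => psiS H₀.w hσ U H.w n)
    (fun n x => (cech U).δ_naturality n (psi H₀.w hσ) x) (fun n => by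
      let l1 := fun b : (cech (X := X.toPresheafedSpace.carrier) U).B n =>
        CechBC.modV f (ClSub.idealMod i₀.ker) ((cech (X := X.toPresheafedSpace.carrier) U).W n b)
      let l2 := fun b : (cech (X := X.toPresheafedSpace.carrier) U).B n =>
        kmod g i σ τ ((cech (X := X.toPresheafedSpace.carrier) U).W n b)
      exact bc_piS_bijective (N := fun b : (cech (X := X.toPresheafedSpace.carrier) U).B n =>
          Γ(ClSub.idealMod i₀.ker, (cech (X := X.toPresheafedSpace.carrier) U).W n b))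
        (N' := fun b : (cech (X := X.toPresheafedSpace.carrier) U).B n =>
          (KP g i σ).obj (op ((cech (X := X.toPresheafedSpace.carrier) U).W n b)))
        (fun b => psiV H₀.w hσ H.w _) (fun b => bijective_bc_psiV H₀.w hσ hker H (hU b.1 b.2.1)))
    (fun n => CechBC.flat_C U _ h.cfn.coh.1 h.cfn.flat hU n) (Fintype.card ι)
    (fun n hn => CechBC.subsingleton_C _ U n hn)

end Main

end Groth.Agent.Pic13.H126.NilKP
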