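import Groth.Agent.Pic13.H126.NilKP
import Groth.Agent.Pic13.H126.NilCls

/-!
# Naturality of the module structure on `KP` and of `psi`

`p : PairHom b₁ σ₁ b₂ σ₂` a morphism of pairs over `W`, `t : T₂ ⟶ T₁` compatible with it: `kP` is semilinear along
`Γ(T₁) → Γ(T₂)` (`scal_kP`, `kP_smul`), compatible with `psi` (`psi_kP`, `Kmap_psi_kP`), `Kmap_kP_sum`.
-/

set_option autoImplicit false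
set_option linter.unusedSectionVars false
universe u

open CategoryTheory CategoryTheory.Limits AlgebraicGeometry Opposite TopologicalSpace

namespace Groth.Agent.Pic13.H126.NilNat

open Groth.Agent
open Groth.Agent.Pic13.H958.RelUnits Groth.Agent.Pic13.H958.Kil Groth.Agent.Pic13.H958.Ord
open Groth.Agent.Fdesc Groth.Agent.Fdesc.LocGen Groth.Agent.Picfga Groth.Agent.Picfga.LineHom Groth.Agent.Picfga.LineDescent Groth.Agent.Picfga.LineFam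
open Groth.Agent.Pic13.H126.NilAlg Groth.Agent.Pic13.H126.NilSit Groth.Agent.Pic13.H126.NilSq
open Groth.Agent.Pic13.H126.NilKP
open Groth.Agent.Ega3B Groth.Agent.Ega3B.CubeData Groth.Agent.Ega3B.CombRes Groth.Agent.Ega3B.Cube

section Scal

variable {W Z₁ Z₀₁ Y₁ Y₀₁ Z₂ Z₀₂ Y₂ Y₀₂ T₁ T₂ : Scheme.{u}} {i₁ : Z₀₁ ⟶ Z₁} {σ₁ : Y₁ ⟶ Z₁} {σ₀₁ : Y₀₁ ⟶ Z₀₁}
  {i₂ : Z₀₂ ⟶ Z₂} {σ₂ : Y₂ ⟶ Z₂} {σ₀₂ : Y₀₂ ⟶ Z₀₂} {b₁ : Z₁ ⟶ W} {b₂ : Z₂ ⟶ W}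
  (p : PairHom b₁ σ₁ b₂ σ₂) (p₀ : PairHom (i₁ ≫ b₁) σ₀₁ (i₂ ≫ b₂) σ₀₂) (hp : p₀.h ≫ i₁ = i₂ ≫ p.h)
  {τ₁ : Z₁ ⟶ T₁} {τ₂ : Z₂ ⟶ T₂} {t : T₂ ⟶ T₁} (ht : p.h ≫ τ₁ = τ₂ ≫ t)

include ht in
theorem fn_sc (U : W.Opens) (r : Γ(T₁, ⊤)) :
    fn p.h (le_of_comp p.w U) (sc b₁ τ₁ U r) = sc b₂ τ₂ U (t.appTop r) := by
  change (τ₁.appLE ⊤ (b₁ ⁻¹ᵁ U) le_top ≫ p.h.appLE _ (b₂ ⁻¹ᵁ U) (le_of_comp p.w U)) r =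
    (t.appTop ≫ τ₂.appLE ⊤ (b₂ ⁻¹ᵁ U) le_top) r
  rw [Scheme.Hom.appLE_comp_appLE]
  have h1 : ∀ (m : Z₂ ⟶ T₁) (_ : p.h ≫ τ₁ = m) (e : b₂ ⁻¹ᵁ U ≤ (p.h ≫ τ₁) ⁻¹ᵁ ⊤) (e' : b₂ ⁻¹ᵁ U ≤ m ⁻¹ᵁ ⊤),
      (p.h ≫ τ₁).appLE ⊤ (b₂ ⁻¹ᵁ U) e = m.appLE ⊤ (b₂ ⁻¹ᵁ U) e' := by
    rintro m rfl _ _
    rfl
  rw [h1 _ ht _ le_top, Scheme.Hom.comp_appLE]
  rfl

include ht in
theorem scal_kP (r : Γ(T₁, ⊤)) :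
    scal b₁ i₁ σ₁ τ₁ r ≫ kP p p₀ hp = kP p p₀ hp ≫ scal b₂ i₂ σ₂ τ₂ (t.appTop r) := by
  ext U x
  apply kval_injective
  change kval (kmap p p₀ hp U.unop ((scal b₁ i₁ σ₁ τ₁ r).app (op U.unop) x)) =
    kval ((scal b₂ i₂ σ₂ τ₂ (t.appTop r)).app (op U.unop) (kmap p p₀ hp U.unop x))
  rw [kval_kmap, kval_scal, kval_scal, kval_kmap, map_mul, fn_sc p ht]

variable {ι : Type} [LinearOrder ι] [Fintype ι] (U : ι → W.Opens)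

include ht in
/-- `kP` is semilinear. -/
theorem Kmap_kP_smul (n : ℕ) (r : Γ(T₁, ⊤)) (x : (cech U).K n (KP b₁ i₁ σ₁)) :
    letI := modK b₁ i₁ σ₁ τ₁ U n
    letI := modK b₂ i₂ σ₂ τ₂ U n
    (cech U).Kmap n (kP p p₀ hp) (r • x) = t.appTop r • (cech U).Kmap n (kP p p₀ hp) x := by
  let j1 := modK b₁ i₁ σ₁ τ₁ U n
  let j2 := modK b₂ i₂ σ₂ τ₂ U n
  change (cech U).Kmap n (kP p p₀ hp) ((cech U).Kmap n (scal b₁ i₁ σ₁ τ₁ r) x) =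
    (cech U).Kmap n (scal b₂ i₂ σ₂ τ₂ (t.appTop r)) ((cech U).Kmap n (kP p p₀ hp) x)
  exact congrArg (fun f => (cech U).Kmap n f x) (scal_kP p p₀ hp ht r)

end Scal

section Psi

variable {X₀ X Z₁ Z₀₁ Y₁ Y₀₁ Z₂ Z₀₂ Y₂ Y₀₂ T₁ T₂ : Scheme.{u}} {i₀ : X₀ ⟶ X} [IsClosedImmersion i₀]
  {i₁ : Z₀₁ ⟶ Z₁} {σ₁ : Y₁ ⟶ Z₁} {σ₀₁ : Y₀₁ ⟶ Z₀₁}
  {i₂ : Z₀₂ ⟶ Z₂} {σ₂ : Y₂ ⟶ Z₂} {σ₀₂ : Y₀₂ ⟶ Z₀₂} {b₁ : Z₁ ⟶ X} {b₂ : Z₂ ⟶ X}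
  {g₁ : Z₀₁ ⟶ X₀} {g₂ : Z₀₂ ⟶ X₀} (w₁ : i₁ ≫ b₁ = g₁ ≫ i₀) (w₂ : i₂ ≫ b₂ = g₂ ≫ i₀)
  (hσ₁ : ∀ (V : Z₁.Opens) (a : Γ(Z₁, V)), i₁.app V a = 0 → σ₁.app V a = 0)
  (hσ₂ : ∀ (V : Z₂.Opens) (a : Γ(Z₂, V)), i₂.app V a = 0 → σ₂.app V a = 0)
  (p : PairHom b₁ σ₁ b₂ σ₂) (p₀ : PairHom (i₁ ≫ b₁) σ₀₁ (i₂ ≫ b₂) σ₀₂) (hp : p₀.h ≫ i₁ = i₂ ≫ p.h)

theorem psi_kP : psi w₁ hσ₁ ≫ kP p p₀ hp = psi w₂ hσ₂ := by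
  ext U x
  apply kval_injective
  change kval (kmap p p₀ hp U.unop ((psi w₁ hσ₁).app (op U.unop) x)) = kval ((psi w₂ hσ₂).app (op U.unop) x)
  rw [kval_kmap]
  change fn p.h (le_of_comp p.w U.unop) (b₁.app U.unop (PerfA.IdealModule.val i₀.ker (V := U.unop) x)) =
    b₂.app U.unop (PerfA.IdealModule.val i₀.ker (V := U.unop) x)
  change (b₁.app U.unop ≫ p.h.appLE _ _ (le_of_comp p.w U.unop)) (PerfA.IdealModule.val i₀.ker (V := U.unop) x) = _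
  rw [← Scheme.Hom.comp_appLE]
  have h1 : ∀ (m : Z₂ ⟶ X) (_ : p.h ≫ b₁ = m) (V : Z₂.Opens) (e : V ≤ (p.h ≫ b₁) ⁻¹ᵁ U.unop)
      (e' : V ≤ m ⁻¹ᵁ U.unop), (p.h ≫ b₁).appLE U.unop V e = m.appLE U.unop V e' := by
    rintro m rfl _ _ _
    rfl
  rw [h1 _ p.w _ _ le_rfl, Scheme.Hom.appLE_eq_app]

variable {ι : Type} [LinearOrder ι] [Fintype ι] (U : ι → X.Opens)

theorem Kmap_psi_kP (n : ℕ) (x : (cech U).K n (Coh.toAb (ClSub.idealMod i₀.ker)).obj) :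
    (cech U).Kmap n (kP p p₀ hp) ((cech U).Kmap n (psi w₁ hσ₁) x) = (cech U).Kmap n (psi w₂ hσ₂) x :=
  congrArg (fun f => (cech U).Kmap n f x) (psi_kP w₁ w₂ hσ₁ hσ₂ p p₀ hp)

variable {τ₁ : Z₁ ⟶ T₁} {τ₂ : Z₂ ⟶ T₂} {t : T₂ ⟶ T₁} (ht : p.h ≫ τ₁ = τ₂ ≫ t)

include ht in
/-- Linear combinations of the images of cochains of the base. -/
theorem Kmap_kP_sum (n : ℕ) {κ : Type} [Fintype κ] (r : κ → Γ(T₁, ⊤))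
    (e : κ → (cech U).K n (Coh.toAb (ClSub.idealMod i₀.ker)).obj) :
    letI := modK b₁ i₁ σ₁ τ₁ U n
    letI := modK b₂ i₂ σ₂ τ₂ U n
    (cech U).Kmap n (kP p p₀ hp) (∑ k, r k • (cech U).Kmap n (psi w₁ hσ₁) (e k)) =
      ∑ k, t.appTop (r k) • (cech U).Kmap n (psi w₂ hσ₂) (e k) := by
  let j1 := modK b₁ i₁ σ₁ τ₁ U n
  let j2 := modK b₂ i₂ σ₂ τ₂ U n
  rw [map_sum]
  refine Finset.sum_congr rfl fun k _ => ?_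
  rw [Kmap_kP_smul p p₀ hp ht U n, Kmap_psi_kP w₁ w₂ hσ₁ hσ₂ p p₀ hp]

end Psi

end Groth.Agent.Pic13.H126.NilNat
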