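import Groth.Agent.Pic13.H547.UnitGrp
import Mathlib.AlgebraicGeometry.Morphisms.ClosedImmersion

/-!
# The closed subscheme of an affine scheme defined by functions, on points
-/

set_option autoImplicit false
universe w u

open CategoryTheory CategoryTheory.Limits AlgebraicGeometry Opposite

namespace Groth.Agent.Pic13.H126.NilPt

open Groth.Agent.Pic13.H547.UnitGrp

/-- The closed subscheme defined by functions on an affine scheme. -/
theorem exists_closed {S : Scheme.{u}} (V : Over S) [IsAffine V.left] {κ : Type w} (b : κ → Γ(V.left, ⊤)) :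
    ∃ (A : Over S) (a : A ⟶ V), IsClosedImmersion a.left ∧
      ∀ (T : Over S) (v : T ⟶ V), (∀ k, v.left.appTop (b k) = 0) ↔ ∃ g : T ⟶ A, g ≫ a = v := by
  let I : Ideal Γ(V.left, ⊤) := Ideal.span (Set.range b)
  let D : Type u := Γ(V.left, ⊤) ⧸ I
  let P : Over V.left := SpecO D
  let A : Over S := Over.mk (P.hom ≫ V.hom)
  let a : A ⟶ V := Over.homMk P.hom
  refine ⟨A, a, ?_, fun T v => ?_⟩
  · have h1 : IsClosedImmersion (Spec.map (CommRingCat.ofHom (algebraMap Γ(V.left, ⊤) D))) :=
      IsClosedImmersion.spec_of_surjective _ Ideal.Quotient.mk_surjective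
    change IsClosedImmersion (Spec.map (CommRingCat.ofHom (algebraMap Γ(V.left, ⊤) D)) ≫ V.left.isoSpec.inv)
    infer_instance
  · let T' : Over V.left := Over.mk v.left
    have h1 : (∀ k, v.left.appTop (b k) = 0) ↔ ∀ x ∈ I, v.left.appTop x = 0 := by
      constructor
      · intro h
        have h2 : I ≤ RingHom.ker v.left.appTop.hom := by
          rw [Ideal.span_le]
          rintro _ ⟨k, rfl⟩
          exact h k
        exact fun x hx => h2 hx
      · intro h k
        exact h _ (Ideal.subset_span ⟨k, rfl⟩)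
    rw [h1]
    constructor
    · intro h
      let φ : D →ₐ[Γ(V.left, ⊤)] BT T' := Ideal.Quotient.liftₐ I (Algebra.ofId Γ(V.left, ⊤) (BT T')) h
      obtain ⟨g, -⟩ := (ptAlg_bijective (D := D) T').2 φ
      refine ⟨Over.homMk g.left ?_, ?_⟩
      · change g.left ≫ P.hom ≫ V.hom = T.hom
        rw [← Category.assoc, Over.w g]
        exact Over.w v
      · ext1
        exact Over.w g
    · rintro ⟨g, rfl⟩ x hx
      let g' : Over.mk (g ≫ a).left ⟶ P := Over.homMk g.left rfl
      have h2 := (ptAlg g').commutes x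
      have h3 : algebraMap Γ(V.left, ⊤) D x = 0 := Ideal.Quotient.eq_zero_iff_mem.2 hx
      rw [h3, map_zero] at h2
      exact h2.symm

end Groth.Agent.Pic13.H126.NilPt
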