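import Groth.Agent.Pic13.H126.NilNat
import Groth.Agent.Pic13.H547.VecGrp
import Groth.Agent.Ega3A.PicSheaf

/-!
# Modules on a square-zero thickening trivialized on the subscheme: the representing vector group

`Ctx i f`: a situation `NSit i f` with a finite affine covering and bases of the Čech cohomology of the ideal.
`BT C T c b`: the class `c` of invertible modules on `X_T` rigidified along `X₀_T` has coordinates `b`.
`exists_rep`: the vector group `W` of the `H¹` of the ideal, `ρ : W ⟶ Pic`, and `q : U ⟶ W` on the units of `X₀`.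
-/

set_option autoImplicit false
set_option linter.unusedSectionVars false
universe u

open CategoryTheory CategoryTheory.Limits AlgebraicGeometry Opposite TopologicalSpace MonoidalCategory
  CartesianMonoidalCategory
open scoped TensorProduct CategoryTheory.MonObj

namespace Groth.Agent.Pic13.H126.NilRep

open Groth.Agent
open Groth.Agent.Ega3A.PicDiv Groth.Agent.Ega3A.PicEtSh Groth.Agent.Ega3A.PicSheaf Groth.Agent.Grpsch.PicGrp
open Groth.Agent.Picfga.HilbPull
open Groth.Agent.Pic13.H602.Rig Groth.Agent.Pic13.H557.RigGrp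
open Groth.Agent.Pic13.H958.RelUnits Groth.Agent.Pic13.H958.Kil Groth.Agent.Pic13.H958.Ord
open Groth.Agent.Pic13.H958.AffLift
open Groth.Agent.Pic13.H547 Groth.Agent.Pic13.H547.SecSheaf Groth.Agent.Pic13.H547.UnitGrp
open Groth.Agent.Pic13.H126.NilAlg Groth.Agent.Pic13.H126.NilSit Groth.Agent.Pic13.H126.NilSq
open Groth.Agent.Pic13.H126.NilKP Groth.Agent.Pic13.H126.NilCls Groth.Agent.Pic13.H126.NilNat
open Groth.Agent.Ega3B Groth.Agent.Ega3B.CubeData Groth.Agent.Ega3B.CombRes Groth.Agent.Ega3B.Cube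

section Pull

variable {X₀ X S : Scheme.{u}} (f : X ⟶ S) (i : X₀ ⟶ X)

theorem isPullback_T (T : Over S) : IsPullback (pullback.fst f T.hom) (pullback.snd f T.hom) f T.hom :=
  IsPullback.of_hasPullback _ _

theorem isPullback_wT (T : Over S) :
    IsPullback (wT f i T) (pullback.fst (i ≫ f) T.hom) (pullback.fst f T.hom) i := by
  have h1 : IsPullback (pullback.fst (i ≫ f) T.hom) (wT f i T ≫ pullback.snd f T.hom) (i ≫ f) T.hom := by
    rw [wT_snd]
    exact IsPullback.of_hasPullback _ _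
  exact (IsPullback.of_bot h1 (wT_fst f i T).symm (isPullback_T f T)).flip

/-- The morphism of pairs attached to a morphism of parameter schemes. -/
noncomputable def pT {T T' : Over S} (g : T' ⟶ T) :
    PairHom (pullback.fst f T.hom) (wT f i T) (pullback.fst f T'.hom) (wT f i T') where
  h := PicF.XTmap f g
  k := PicF.XTmap (i ≫ f) g
  w := XTmap_fst f g
  sq := (wT_XTmap f i g).symm

end Pull

variable {X₀ X S : Scheme.{u}}

/-- A square-zero situation with bases of the Čech cohomology. -/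
structure Ctx (i : X₀ ⟶ X) (f : X ⟶ S) where
  sit : NSit i f
  sq : i.ker ^ 2 = ⊥
  n : ℕ
  U : Fin n → X.Opens
  cov : ⨆ a, U a = ⊤
  aff : ∀ s : Finset (Fin n), s.Nonempty → IsAffineOpen (s.inf U)
  κ : ℕ → Type
  fk : ∀ m, Fintype (κ m)
  e : ∀ m, κ m → CechBC.C (ClSub.idealMod i.ker) U (m + 1)
  he : letI := fun m => CechBC.modC f (ClSub.idealMod i.ker) U m
    IsHBasis (C := fun m => CechBC.C (ClSub.idealMod i.ker) U m) (CechBC.d f (ClSub.idealMod i.ker) U) e

variable {i : X₀ ⟶ X} {f : X ⟶ S}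

theorem exists_ctx (h : NSit i f) (hsq : i.ker ^ 2 = ⊥) : Nonempty (Ctx i f) := by
  have := h.aff
  have := h.qc
  have := h.sep
  have h1 : CompactSpace X := QuasiCompact.compactSpace_of_compactSpace f
  have h2 : X.IsSeparated := by
    have : IsSeparated (terminal.from X) := by
      rw [← terminal.comp_from f]
      infer_instance
    exact ⟨this⟩
  obtain ⟨n, U, hcov, hU⟩ := AcyclicBC.exists_cover X
  obtain ⟨κ, fk, e, he⟩ := h.exists_hbasis U hcov hU
  exact ⟨⟨h, hsq, n, U, hcov, hU, κ, fk, e, he⟩⟩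

namespace Ctx

variable (C : Ctx i f)

attribute [instance] Ctx.fk

include C in
theorem ci : IsClosedImmersion i := C.sit.ci

include C in
theorem ciT (T : Over S) : IsClosedImmersion (wT f i T) :=
  MorphismProperty.of_isPullback (isPullback_wT f i T).flip C.sit.ci

include C in
/-- The quad of `X_T`. -/
theorem quadT (T : Over S) : Quad (wT f i T) (wT f i T) (𝟙 _) (𝟙 _) := by
  have := C.ciT T
  have := C.ci
  exact NilSq.quad (sq_of_isPullback (isPullback_wT f i T) C.sq)

/-- The cocycle with given coordinates. -/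
noncomputable def zc (T : Over S) (b : C.κ 0 → Γ(T.left, ⊤)) :
    (cech C.U).K 1 (KP (pullback.fst f T.hom) (wT f i T) (wT f i T)) :=
  haveI := C.ci
  letI := modK (pullback.fst f T.hom) (wT f i T) (wT f i T) (pullback.snd f T.hom) C.U 1
  ∑ k, b k • (cech C.U).Kmap 1 (psi (isPullback_wT f i T).w (fun _ _ h => h)) (C.e 0 k)

/-- The class `c` has the coordinates `b`. -/
def BT (T : Over S) (c : RCl (wT f i T)) (b : C.κ 0 → Γ(T.left, ⊤)) : Prop :=
  HasX (C.quadT T) (pullback.fst f T.hom) C.U c (C.zc T b)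

theorem affT (T : Over S) [IsAffine T.left] (s : Finset (Fin C.n)) (hs : s.Nonempty) :
    IsAffineOpen (pullback.fst f T.hom ⁻¹ᵁ (s.inf C.U)) := by
  have := C.sit.aff
  have : IsAffineHom (pullback.fst f T.hom) := MorphismProperty.pullback_fst _ _ inferInstance
  exact (C.aff s hs).preimage _

theorem affT' (T : Over S) [IsAffine T.left] (a : Fin C.n) :
    IsAffineOpen (pullback.fst f T.hom ⁻¹ᵁ C.U a) := by
  have := C.affT T {a} ⟨a, Finset.mem_singleton_self a⟩
  simpa using this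

theorem hbT (T : Over S) [IsAffine T.left] :
    haveI := C.ci
    letI := fun m => modK (pullback.fst f T.hom) (wT f i T) (wT f i T) (pullback.snd f T.hom) C.U m
    IsHBasis (C := fun m => (cech C.U).K m (KP (pullback.fst f T.hom) (wT f i T) (wT f i T)))
      (dK (pullback.fst f T.hom) (wT f i T) (wT f i T) (pullback.snd f T.hom) C.U)
      (fun m k => (cech C.U).Kmap (m + 1) (psi (isPullback_wT f i T).w (fun _ _ h => h)) (C.e m k)) :=
  NilKP.isHBasis (fun _ _ h => h) C.sit (isPullback_T f T) (isPullback_wT f i T) C.aff C.he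

theorem δ_zc (T : Over S) [IsAffine T.left] (b : C.κ 0 → Γ(T.left, ⊤)) :
    (cech C.U).δ 1 _ (C.zc T b) = 0 := by
  let jm := fun m => modK (pullback.fst f T.hom) (wT f i T) (wT f i T) (pullback.snd f T.hom) C.U m
  change dK (pullback.fst f T.hom) (wT f i T) (wT f i T) (pullback.snd f T.hom) C.U 1 (C.zc T b) = 0
  rw [zc, map_sum]
  refine Finset.sum_eq_zero fun k _ => ?_
  rw [map_smul]
  have h1 := (C.hbT T).closed 0 k
  rw [h1, smul_zero]

/-- Every class has coordinates. -/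
theorem exists_coord (T : Over S) [IsAffine T.left] (c : RCl (wT f i T)) : ∃ b, C.BT T c b := by
  let jm := fun m => modK (pullback.fst f T.hom) (wT f i T) (wT f i T) (pullback.snd f T.hom) C.U m
  obtain ⟨x, hx, hδ⟩ := exists_hasX (C.quadT T) (pullback.fst f T.hom) (U := C.U) (C.affT' T) c
  obtain ⟨b, y, hb⟩ := (C.hbT T).exists_rep 0 x hδ
  obtain ⟨c', hc'⟩ := exists_of_hasX (C.quadT T) (pullback.fst f T.hom) C.cov (C.zc T b) (C.δ_zc T b)
  refine ⟨b, ?_⟩
  have h1 : c = c' := (hasX_eq_iff (C.quadT T) (pullback.fst f T.hom) C.cov hx hc').2 ⟨y, by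
    rw [eq_sub_iff_add_eq]
    exact hb.symm⟩
  rw [h1]
  exact hc'

/-- All coordinates occur. -/
theorem exists_of_coord (T : Over S) [IsAffine T.left] (b : C.κ 0 → Γ(T.left, ⊤)) : ∃ c, C.BT T c b :=
  exists_of_hasX (C.quadT T) (pullback.fst f T.hom) C.cov (C.zc T b) (C.δ_zc T b)

theorem eq_iff_coord (T : Over S) [IsAffine T.left] {c c' : RCl (wT f i T)} {b b' : C.κ 0 → Γ(T.left, ⊤)}
    (h : C.BT T c b) (h' : C.BT T c' b') : c = c' ↔ b = b' := by
  rw [hasX_eq_iff (C.quadT T) (pullback.fst f T.hom) C.cov h h']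
  constructor
  · rintro ⟨y, hy⟩
    let jm := fun m => modK (pullback.fst f T.hom) (wT f i T) (wT f i T) (pullback.snd f T.hom) C.U m
    rw [← sub_eq_zero]
    apply (C.hbT T).unique 0 (b - b') (-y)
    simp only [Pi.sub_apply, sub_smul, Finset.sum_sub_distrib, map_neg]
    change C.zc T b - C.zc T b' + -(cech C.U).δ 0 _ y = 0
    rw [hy]
    abel
  · rintro rfl
    exact ⟨0, by rw [map_zero, sub_zero]⟩

theorem zc_add (T : Over S) (b b' : C.κ 0 → Γ(T.left, ⊤)) : C.zc T (b + b') = C.zc T b + C.zc T b' := by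
  let j1 := modK (pullback.fst f T.hom) (wT f i T) (wT f i T) (pullback.snd f T.hom) C.U 1
  simp only [zc, Pi.add_apply, add_smul, Finset.sum_add_distrib]

/-- Coordinates of a product. -/
theorem BT.mul {C : Ctx i f} {T : Over S} {c c' : RCl (wT f i T)} {b b' : C.κ 0 → Γ(T.left, ⊤)}
    (h : C.BT T c b) (h' : C.BT T c' b') : C.BT T (c * c') (b + b') := by
  rw [BT, zc_add]
  exact HasX.mul (C.quadT T) (pullback.fst f T.hom) h h'

/-- Coordinates of a pull back. -/
theorem BT.pull {C : Ctx i f} {T T' : Over S} (g : T' ⟶ T) {c : RCl (wT f i T)}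
    {b : C.κ 0 → Γ(T.left, ⊤)} (h : C.BT T c b) :
    C.BT T' (RCl.pull (wT_XTmap f i g) c) (fun k => g.left.appTop (b k)) := by
  have := C.ci
  have h1 := HasX.pull (C.quadT T) (C.quadT T') (pT f i g) h
  have h2 := Kmap_kP_sum (isPullback_wT f i T).w (isPullback_wT f i T').w (fun _ _ h => h) (fun _ _ h => h)
    (pT f i g) (pairId (pT f i g)) (pT f i g).sq C.U (t := g.left) (XTmap_snd f g) 1 b (C.e 0)
  have h3 : (cech C.U).Kmap 1 (kP (pT f i g) (pairId (pT f i g)) (pT f i g).sq) (C.zc T b) =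
      C.zc T' (fun k => g.left.appTop (b k)) := h2
  rw [h3] at h1
  exact h1

end Ctx

section Coord

open Groth.Agent.Pic13.H547.VecAlg

variable (κ : Type) [Fintype κ]

open Classical in
/-- `Γ(T) ⊗ Γ(S)^κ ≃ Γ(T)^κ`. -/
noncomputable def coord (T : Over S) :
    (UnitGrp.BT T ⊗[Γ(S, ⊤)] (κ → Γ(S, ⊤))) ≃ₗ[Γ(S, ⊤)] (κ → UnitGrp.BT T) :=
  TensorProduct.piScalarRight Γ(S, ⊤) Γ(S, ⊤) (UnitGrp.BT T) κ

theorem coord_tmul (T : Over S) (b : UnitGrp.BT T) (v : κ → Γ(S, ⊤)) (k : κ) :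
    coord κ T (b ⊗ₜ v) k = v k • b := by
  classical
  rw [coord, TensorProduct.piScalarRight_apply, TensorProduct.piScalarRightHom_tmul]

theorem coord_bm {T T' : Over S} (g : T' ⟶ T) (z : UnitGrp.BT T ⊗[Γ(S, ⊤)] (κ → Γ(S, ⊤))) (k : κ) :
    coord κ T' (bm (κ → Γ(S, ⊤)) (BTmap g) z) k = BTmap g (coord κ T z k) := by
  induction z using TensorProduct.induction_on with
  | zero => simp
  | add x y hx hy => rw [map_add, map_add, map_add, Pi.add_apply, Pi.add_apply, map_add, hx, hy]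
  | tmul b v =>
    rw [coord_tmul]
    change coord κ T' (BTmap g b ⊗ₜ v) k = _
    rw [coord_tmul, map_smul]

end Coord

theorem exists_γ (C : Ctx i f) (R : VecGrp.VRep S (C.κ 0 → Γ(S, ⊤))) :
    ∃ γ : ∀ (T : Over S) [IsAffine T.left], (T ⟶ R.V) ≃ RCl (wT f i T),
      (∀ (T : Over S) [IsAffine T.left] (a b : T ⟶ R.V), γ T (a * b) = γ T a * γ T b) ∧
      (∀ {T T' : Over S} [IsAffine T.left] [IsAffine T'.left] (g : T' ⟶ T) (a : T ⟶ R.V),
        γ T' (g ≫ a) = RCl.pull (wT_XTmap f i g) (γ T a)) := by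
  let co : ∀ (T : Over S), (T ⟶ R.V) → (C.κ 0 → Γ(T.left, ⊤)) := fun T a => coord (C.κ 0) T (R.e T a)
  have co_inj : ∀ (T : Over S), Function.Injective (co T) := fun T a b h =>
    (R.e T).injective ((coord (C.κ 0) T).injective h)
  have co_surj : ∀ (T : Over S), Function.Surjective (co T) := fun T v => by
    obtain ⟨z, hz⟩ := (coord (C.κ 0) T).surjective v
    obtain ⟨a, rfl⟩ := (R.e T).surjective z
    exact ⟨a, hz⟩
  let cl : ∀ (T : Over S) [IsAffine T.left], (T ⟶ R.V) → RCl (wT f i T) := fun T _ a =>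
    (C.exists_of_coord T (co T a)).choose
  have hcl : ∀ (T : Over S) [IsAffine T.left] (a : T ⟶ R.V), C.BT T (cl T a) (co T a) := fun T _ a =>
    (C.exists_of_coord T (co T a)).choose_spec
  have hbij : ∀ (T : Over S) [IsAffine T.left], Function.Bijective (cl T) := by
    intro T _
    constructor
    · intro a b h
      exact co_inj T ((C.eq_iff_coord T (hcl T a) (hcl T b)).1 h)
    · intro c
      obtain ⟨v, hv⟩ := C.exists_coord T c
      obtain ⟨a, rfl⟩ := co_surj T v
      exact ⟨a, (C.eq_iff_coord T (hcl T a) hv).2 rfl⟩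
  refine ⟨fun T _ => Equiv.ofBijective (cl T) (hbij T), fun T _ a b => ?_, fun {T T'} _ _ g a => ?_⟩
  · change cl T (a * b) = cl T a * cl T b
    rw [C.eq_iff_coord T (hcl T (a * b)) ((hcl T a).mul (hcl T b))]
    funext k
    change coord (C.κ 0) T (R.e T (a * b)) k = _
    rw [R.mul, map_add]
    rfl
  · change cl T' (g ≫ a) = RCl.pull (wT_XTmap f i g) (cl T a)
    rw [C.eq_iff_coord T' (hcl T' (g ≫ a)) ((hcl T a).pull g)]
    funext k
    change coord (C.κ 0) T' (R.e T' (g ≫ a)) k = _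
    rw [R.nat, coord_bm]
    rfl

/-- **The vector group of the `H¹` of the ideal.** -/
theorem exists_rep (h : NSit i f) (hsq : i.ker ^ 2 = ⊥) (R₀ : UnitGrp.Rep (i ≫ f)) :
    ∃ (W : Over S) (_ : GrpObj W) (_ : IsCommMonObj W) (_ : IsAffineHom W.hom) (_ : Smooth W.hom)
      (q : R₀.U ⟶ W) (_ : IsMonHom q) (ρ : ∀ T : Over S, (T ⟶ W) → Pic (PicF.XT f T)),
      (∀ {T T' : Over S} (g : T' ⟶ T) (r : T ⟶ W), ρ T' (g ≫ r) = pu f g (ρ T r)) ∧
      (∀ (T : Over S) [IsAffine T.left] (r : T ⟶ W), pull (wT f i T) (ρ T r) = 1) ∧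
      (∀ (T : Over S) [IsAffine T.left] (c : Pic (PicF.XT f T)), pull (wT f i T) c = 1 →
        ∃ r : T ⟶ W, ρ T r = c) ∧
      (∀ (T : Over S) [IsAffine T.left] (a b : T ⟶ W),
        ρ T a = ρ T b ↔ ∃ r : T ⟶ R₀.U, a = (r ≫ q) * b) ∧
      (∀ (T : Over S) [IsAffine T.left] (r : T ⟶ R₀.U), r ≫ q = 1 ↔
        ∃ a : Γ(PicF.XT f T, ⊤)ˣ, Units.map (wT f i T).appTop.hom.toMonoidHom a = R₀.e T r) := by
  obtain ⟨C⟩ := exists_ctx h hsq
  have hS := h.aff
  obtain ⟨R⟩ := VecGrp.exists_vrep (S := S) (C.κ 0 → Γ(S, ⊤))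
  obtain ⟨γ, γmul, γnat⟩ := exists_γ C R
  have hW : IsAffine R.V.left := isAffine_of_isAffineHom R.V.hom
  have hU : IsAffine R₀.U.left := isAffine_of_isAffineHom R₀.U.hom
  have γone : ∀ (T : Over S) [IsAffine T.left], γ T 1 = 1 := by
    intro T _
    have h1 := γmul T 1 1
    rw [_root_.mul_one] at h1
    exact left_eq_mul.mp h1
  let q : R₀.U ⟶ R.V := (γ R₀.U).symm (unitCl (wT f i R₀.U) (R₀.e R₀.U (𝟙 R₀.U)))
  have hq : ∀ (T : Over S) [IsAffine T.left] (a : T ⟶ R₀.U), γ T (a ≫ q) = unitCl (wT f i T) (R₀.e T a) := by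
    intro T _ a
    rw [γnat, Equiv.apply_symm_apply, pull_unitCl]
    have h1 := R₀.nat a (𝟙 R₀.U)
    rw [Category.comp_id] at h1
    rw [h1]
    rfl
  have qmul : ∀ (T : Over S) [IsAffine T.left] (a b : T ⟶ R₀.U), (a * b) ≫ q = (a ≫ q) * (b ≫ q) := by
    intro T _ a b
    apply (γ T).injective
    rw [hq, γmul, hq, hq, map_mul, map_mul]
  have hUU : IsAffine (R₀.U ⊗ R₀.U).left := by
    change IsAffine (pullback R₀.U.hom R₀.U.hom)
    infer_instance
  have qmul' : ∀ (T : Over S) (a b : T ⟶ R₀.U), (a * b) ≫ q = (a ≫ q) * (b ≫ q) := by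
    intro T a b
    have h1 : a * b = lift a b ≫ (fst R₀.U R₀.U * snd R₀.U R₀.U) := by
      rw [MonObj.comp_mul, lift_fst, lift_snd]
    rw [h1, Category.assoc, qmul, MonObj.comp_mul, ← Category.assoc, ← Category.assoc, lift_fst, lift_snd]
  obtain ⟨q', hq'1, hq'2⟩ := UnitMap.exists_hom_of_points (U := R₀.U) (V := R.V) (fun T a => a ≫ q)
    (fun g a => Category.assoc _ _ _) qmul'
  have hqq : q' = q := by
    have h1 := hq'2 _ (𝟙 R₀.U)
    rw [Category.id_comp, Category.id_comp] at h1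
    exact h1
  subst hqq
  let δ : Pic (PicF.XT f R.V) := toPic (wT f i R.V) (γ R.V (𝟙 R.V))
  have hρ : ∀ (T : Over S) [IsAffine T.left] (r : T ⟶ R.V), pu f r δ = toPic (wT f i T) (γ T r) := by
    intro T _ r
    have h1 := γnat r (𝟙 R.V)
    rw [Category.comp_id] at h1
    rw [h1, toPic_pull]
  refine ⟨R.V, R.grp, R.isCommMonObj, R.affine, R.smooth, q, hq'1, fun T r => pu f r δ, ?_, ?_, ?_, ?_, ?_⟩
  · intro T T' g r
    exact pu_comp f r g δ
  · intro T _ r
    change pull (wT f i T) (pu f r δ) = 1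
    rw [hρ]
    exact pull_toPic _
  · intro T _ c hc
    obtain ⟨c', rfl⟩ := exists_toPic hc
    refine ⟨(γ T).symm c', ?_⟩
    change pu f ((γ T).symm c') δ = _
    rw [hρ, Equiv.apply_symm_apply]
  · intro T _ a b
    change pu f a δ = pu f b δ ↔ _
    rw [hρ, hρ]
    constructor
    · intro hab
      have h1 : toPic (wT f i T) (γ T a * (γ T b)⁻¹) = 1 := by
        rw [map_mul, map_inv, hab, mul_inv_cancel]
      obtain ⟨u, hu⟩ := toPic_eq_one_iff.1 h1
      refine ⟨(R₀.e T).symm u, (γ T).injective ?_⟩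
      rw [γmul, hq, MulEquiv.apply_symm_apply, hu, inv_mul_cancel_right]
    · rintro ⟨r, rfl⟩
      rw [γmul, hq, map_mul, toPic_unitCl, _root_.one_mul]
  · intro T _ r
    rw [← unitCl_eq_one_iff, ← hq, ← γone T, (γ T).apply_eq_iff_eq]

end Groth.Agent.Pic13.H126.NilRep
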