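import Groth.Agent.Picfga.LineFam

/-!
# Patching of invertible modules along a square

`PatchSq π i i' π'`: a commutative square
```
Y' --i'--> X'
|π'        |π
Y  --i-->  X
```
with `O_X = π_* O_X' ×_(O_Y') i_* O_Y`.

* `exists_patch`: invertible modules `L'` on `X'` and `M` on `Y` with isomorphic pullbacks to `Y'` come from `X`,
  provided that locally on `X` there are matching generators;
* `exists_hom_patch`, `hom_patch_unique`: homomorphisms are determined by, and constructed from, compatible pairs.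

Pullbacks are encoded by the families `Fam` of `Groth.Agent.Picfga.LineFam`.
-/

set_option autoImplicit false

universe u

open CategoryTheory AlgebraicGeometry TopologicalSpace Opposite

namespace Groth.Agent.Pic13.H126.Patch

open Groth.Agent.Fdesc Groth.Agent.Fdesc.LocGen Groth.Agent.Picfga.LineHom
  Groth.Agent.Picfga.LineDescent Groth.Agent.Picfga.LineFam

variable {X X' Y Y' : Scheme.{u}}

/-- `O_X` is the fibre product of `O_X'` and `O_Y` over `O_Y'`. -/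
structure PatchSq (π : X' ⟶ X) (i : Y ⟶ X) (i' : Y' ⟶ X') (π' : Y' ⟶ Y) : Prop where
  w : i' ≫ π = π' ≫ i
  inj : ∀ (U : X.Opens) (a : Γ(X, U)), π.app U a = 0 → i.app U a = 0 → a = 0
  surj : ∀ (U : X.Opens) (b : Γ(X', π ⁻¹ᵁ U)) (c : Γ(Y, i ⁻¹ᵁ U))
    (h : i' ⁻¹ᵁ (π ⁻¹ᵁ U) ≤ π' ⁻¹ᵁ (i ⁻¹ᵁ U)), i'.app (π ⁻¹ᵁ U) b = fn π' h c →
    ∃ a : Γ(X, U), π.app U a = b ∧ i.app U a = c

namespace PatchSq

variable {π : X' ⟶ X} {i : Y ⟶ X} {i' : Y' ⟶ X'} {π' : Y' ⟶ Y}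

lemma preimage_eq (w : i' ≫ π = π' ≫ i) (U : X.Opens) :
    i' ⁻¹ᵁ (π ⁻¹ᵁ U) = π' ⁻¹ᵁ (i ⁻¹ᵁ U) := by
  change (i' ≫ π) ⁻¹ᵁ U = (π' ≫ i) ⁻¹ᵁ U
  rw [w]

lemma ext (P : PatchSq π i i' π') {U : X.Opens} {a b : Γ(X, U)} (h : π.app U a = π.app U b)
    (h' : i.app U a = i.app U b) : a = b := by
  rw [← sub_eq_zero]
  apply P.inj
  · rw [map_sub, h, sub_self]
  · rw [map_sub, h', sub_self]

/-- It is enough to check the condition on affine opens. -/
theorem of_affine (w : i' ≫ π = π' ≫ i)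
    (inj : ∀ (U : X.Opens), IsAffineOpen U → ∀ (a : Γ(X, U)), π.app U a = 0 → i.app U a = 0 → a = 0)
    (surj : ∀ (U : X.Opens), IsAffineOpen U → ∀ (b : Γ(X', π ⁻¹ᵁ U)) (c : Γ(Y, i ⁻¹ᵁ U))
      (h : i' ⁻¹ᵁ (π ⁻¹ᵁ U) ≤ π' ⁻¹ᵁ (i ⁻¹ᵁ U)), i'.app (π ⁻¹ᵁ U) b = fn π' h c →
      ∃ a : Γ(X, U), π.app U a = b ∧ i.app U a = c) : PatchSq π i i' π' := by
  have hcov : ∀ U : X.Opens, ∃ (V : U → X.Opens), (∀ x, IsAffineOpen (V x)) ∧ (∀ x, V x ≤ U) ∧
      U ≤ ⨆ x, V x := by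
    intro U
    have h1 : ∀ x : U, ∃ V : X.Opens, IsAffineOpen V ∧ x.1 ∈ V ∧ V ≤ U := by
      intro x
      obtain ⟨_, ⟨V, hV, rfl⟩, hxV, hVU⟩ :=
        X.isBasis_affineOpens.exists_subset_of_mem_open x.2 U.isOpen
      exact ⟨V, hV, hxV, hVU⟩
    choose V h1 h2 h3 using h1
    exact ⟨V, h1, h3, fun x hx => Opens.mem_iSup.2 ⟨⟨x, hx⟩, h2 _⟩⟩
  have inj' : ∀ (U : X.Opens) (a : Γ(X, U)), π.app U a = 0 → i.app U a = 0 → a = 0 := by
    intro U a h h'
    obtain ⟨V, hV, hVU, hc⟩ := hcov U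
    refine ores_ext V hVU hc fun x => ?_
    rw [map_zero]
    apply inj _ (hV x)
    · rw [app_ores, h, map_zero]
    · rw [app_ores, h', map_zero]
  refine ⟨w, inj', fun U b c h hbc => ?_⟩
  obtain ⟨V, hV, hVU, hc⟩ := hcov U
  have h1 : ∀ x, ∃ a : Γ(X, V x), π.app (V x) a = ores (π.preimage_mono (hVU x)) b ∧
      i.app (V x) a = ores (i.preimage_mono (hVU x)) c := by
    intro x
    refine surj _ (hV x) _ _ (preimage_eq w _).le ?_
    rw [app_ores, hbc, fn_ores, ores_fn]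
  choose a ha ha' using h1
  have hu : ∀ (x y : U), ores (inf_le_left : V x ⊓ V y ≤ V x) (a x) =
      ores (inf_le_right : V x ⊓ V y ≤ V y) (a y) := by
    intro x y
    rw [← sub_eq_zero]
    apply inj'
    · rw [map_sub, app_ores, app_ores, ha, ha, ores_ores, ores_ores, sub_self]
    · rw [map_sub, app_ores, app_ores, ha', ha', ores_ores, ores_ores, sub_self]
  obtain ⟨t, ht⟩ := ores_glue V hVU hc a hu
  refine ⟨t, ?_, ?_⟩
  · refine ores_ext (fun x => π ⁻¹ᵁ V x) (fun x => π.preimage_mono (hVU x)) ?_ fun x => ?_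
    · rw [← Scheme.Hom.preimage_iSup]
      exact π.preimage_mono hc
    · rw [← app_ores π (hVU x), ht, ha]
  · refine ores_ext (fun x => i ⁻¹ᵁ V x) (fun x => i.preimage_mono (hVU x)) ?_ fun x => ?_
    · rw [← Scheme.Hom.preimage_iSup]
      exact i.preimage_mono hc
    · rw [← app_ores i (hVU x), ht, ha']

end PatchSq

variable {π : X' ⟶ X} {i : Y ⟶ X} {i' : Y' ⟶ X'} {π' : Y' ⟶ Y}
  {L' : X'.Modules} {M : Y.Modules} {N : Y'.Modules}

/-- Compatibility of the families on a module over `X`. -/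
def Compat (w : i' ≫ π = π' ≫ i) (μ' : Fam i' L' N) (μ : Fam π' M N) {L : X.Modules}
    (θ' : Fam π L L') (θ : Fam i L M) : Prop := (θ'.comp μ').cast w = θ.comp μ

lemma compat_iff (w : i' ≫ π = π' ≫ i) (μ' : Fam i' L' N) (μ : Fam π' M N) {L : X.Modules}
    (θ' : Fam π L L') (θ : Fam i L M) : Compat w μ' μ θ' θ ↔
      ∀ {U : X.Opens} (s : Γ(L, U)) {W : Y'.Opens} (h : W ≤ i' ⁻¹ᵁ (π ⁻¹ᵁ U))
        (h' : W ≤ π' ⁻¹ᵁ (i ⁻¹ᵁ U)), μ'.on h (θ'.map s) = μ.on h' (θ.map s) := by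
  constructor
  · intro hc U s W h h'
    have h1 := congrArg (fun F : Fam (π' ≫ i) L N => F.on (U := U) (N := W) h' s) hc
    exact (Fam.cast_on w (θ'.comp μ') h' s).symm.trans h1
  · intro H
    refine Fam.ext' fun U s => ?_
    exact (H s (W := π' ⁻¹ᵁ (i ⁻¹ᵁ U)) (PatchSq.preimage_eq w U).ge le_rfl).trans
      (Fam.on_le_rfl _ _)

/-- Local data for patching: matching generators. -/
def HasGens (μ' : Fam i' L' N) (μ : Fam π' M N) (x : X) : Prop :=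
  ∃ (U : X.Opens) (l : Γ(L', π ⁻¹ᵁ U)) (m : Γ(M, i ⁻¹ᵁ U)), x ∈ U ∧ IsGen l ∧ IsGen m ∧
    ∀ (h : i' ⁻¹ᵁ (π ⁻¹ᵁ U) ≤ π' ⁻¹ᵁ (i ⁻¹ᵁ U)), μ'.map l = μ.on h m

/-- **Patching of invertible modules.** -/
theorem exists_patch (P : PatchSq π i i' π') (μ' : Fam i' L' N) (μ : Fam π' M N)
    (h : ∀ x : X, HasGens (π := π) (i := i) μ' μ x) :
    ∃ (L : X.Modules) (θ' : Fam π L L') (θ : Fam i L M), PicF.IsInvertible L ∧
      Compat P.w μ' μ θ' θ := by
  choose U l m hxU hl hm hlm using h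
  have hU : ⨆ x, U x = ⊤ := top_le_iff.1 fun x _ => Opens.mem_iSup.2 ⟨x, hxU x⟩
  have hlm' : ∀ (x : X) (W : Y'.Opens) (h : W ≤ i' ⁻¹ᵁ (π ⁻¹ᵁ U x))
      (h' : W ≤ π' ⁻¹ᵁ (i ⁻¹ᵁ U x)), μ'.on h (l x) = μ.on h' (m x) := by
    intro x W h h'
    have h1 := congrArg (LocGen.res N h) (hlm x (PatchSq.preimage_eq P.w _).le)
    rw [Fam.res_on] at h1
    exact h1
  -- the transition functions
  have key : ∀ (x y : X) (V : X.Opens) (hx : V ≤ U x) (hy : V ≤ U y), ∃ a : Γ(X, V),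
      LocGen.res L' (π.preimage_mono hx) (l x) = π.app V a • LocGen.res L' (π.preimage_mono hy) (l y) ∧
      LocGen.res M (i.preimage_mono hx) (m x) = i.app V a • LocGen.res M (i.preimage_mono hy) (m y) := by
    intro x y V hx hy
    obtain ⟨b, hb⟩ := exists_smul (hl y) (π.preimage_mono hy) (LocGen.res L' (π.preimage_mono hx) (l x))
    obtain ⟨c, hc⟩ := exists_smul (hm y) (i.preimage_mono hy) (LocGen.res M (i.preimage_mono hx) (m x))
    have hle : i' ⁻¹ᵁ (π ⁻¹ᵁ V) ≤ π' ⁻¹ᵁ (i ⁻¹ᵁ V) := (PatchSq.preimage_eq P.w _).le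
    have hbc : i'.app (π ⁻¹ᵁ V) b = fn π' hle c := by
      have hgen : IsGen (μ'.map (LocGen.res L' (π.preimage_mono hy) (l y))) :=
        μ'.gen ((hl y).res _)
      apply hgen.ext
      rw [← μ'.smul, hb]
      have e1 : μ'.map (LocGen.res L' (π.preimage_mono hy) (l y)) =
          μ.on hle (LocGen.res M (i.preimage_mono hy) (m y)) := by
        rw [← Fam.on_le_rfl, Fam.on_res, Fam.on_res]
        exact hlm' y _ _ _
      have e2 : μ'.map (LocGen.res L' (π.preimage_mono hx) (l x)) =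
          μ.on hle (LocGen.res M (i.preimage_mono hx) (m x)) := by
        rw [← Fam.on_le_rfl, Fam.on_res, Fam.on_res]
        exact hlm' x _ _ _
      rw [e1, e2, ← Fam.on_smul, hc]
    obtain ⟨a, ha, ha'⟩ := P.surj V b c hle hbc
    exact ⟨a, by rw [ha, hb], by rw [ha', hc]⟩
  have uniq : ∀ (y : X) (V : X.Opens) (hy : V ≤ U y) (a b : Γ(X, V)),
      π.app V a • LocGen.res L' (π.preimage_mono hy) (l y) =
        π.app V b • LocGen.res L' (π.preimage_mono hy) (l y) →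
      i.app V a • LocGen.res M (i.preimage_mono hy) (m y) =
        i.app V b • LocGen.res M (i.preimage_mono hy) (m y) → a = b := by
    intro y V hy a b h h'
    exact P.ext (smul_inj (hl y) _ h) (smul_inj (hm y) _ h')
  choose g hg hg' using fun x y => key x y (U x ⊓ U y) inf_le_left inf_le_right
  have hgr : ∀ x y (T : X.Opens) (hx : T ≤ U x) (hy : T ≤ U y),
      LocGen.res L' (π.preimage_mono hx) (l x) =
        π.app T (ores (le_inf hx hy) (g x y)) • LocGen.res L' (π.preimage_mono hy) (l y) := by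
    intro x y T hx hy
    have := congrArg (LocGen.res L' (π.preimage_mono (le_inf hx hy))) (hg x y)
    simp only [res_smul, res_res] at this
    rw [app_ores]
    exact this
  have hgr' : ∀ x y (T : X.Opens) (hx : T ≤ U x) (hy : T ≤ U y),
      LocGen.res M (i.preimage_mono hx) (m x) =
        i.app T (ores (le_inf hx hy) (g x y)) • LocGen.res M (i.preimage_mono hy) (m y) := by
    intro x y T hx hy
    have := congrArg (LocGen.res M (i.preimage_mono (le_inf hx hy))) (hg' x y)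
    simp only [res_smul, res_res] at this
    rw [app_ores]
    exact this
  obtain ⟨L, e, he, hge⟩ := Groth.Agent.Picfga.LineCocycle.exists_of_cocycle U g (by
      intro x
      have h2 : ores (le_inf inf_le_left inf_le_left : U x ⊓ U x ≤ U x ⊓ U x) (g x x) = g x x :=
        ores_refl _
      apply uniq x _ inf_le_left
      · have := hgr x x (U x ⊓ U x) inf_le_left inf_le_left
        rw [h2] at this
        rw [← this, map_one, one_smul]
      · have := hgr' x x (U x ⊓ U x) inf_le_left inf_le_left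
        rw [h2] at this
        rw [← this, map_one, one_smul]) (by
      intro x y z T hx hy hz
      apply uniq z _ hz
      · rw [← hgr x z T hx hz, map_mul, mul_smul, ← hgr y z T hy hz, ← hgr x y T hx hy]
      · rw [← hgr' x z T hx hz, map_mul, mul_smul, ← hgr' y z T hy hz, ← hgr' x y T hx hy])
  obtain ⟨θ', hθ'⟩ := Fam.exists_of_gens (G := π) hU he l hl fun x y =>
    ⟨g x y, hge x y, hg x y⟩
  obtain ⟨θ, hθ⟩ := Fam.exists_of_gens (G := i) hU he m hm fun x y =>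
    ⟨g x y, hge x y, hg' x y⟩
  refine ⟨L, θ', θ, isInvertible_of_gens hU he, ?_⟩
  refine Fam.ext_of_gens hU he fun x => ?_
  change LocGen.res N _ (μ'.map (θ'.map (e x))) = μ.map (θ.map (e x))
  rw [hθ', hθ]
  exact (hlm' x _ (PatchSq.preimage_eq P.w _).ge le_rfl).trans (Fam.on_le_rfl _ _)

/-- Precomposition of a family with an isomorphism. -/
noncomputable def precomp {G : X' ⟶ X} {L₁ L₂ : X.Modules} (φ : L₁ ≅ L₂) (θ : Fam G L₂ L') :
    Fam G L₁ L' where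
  map s := θ.map (φ.hom.app _ s)
  smul a s := by rw [Scheme.Modules.Hom.app_smul, θ.smul]
  res h s := by rw [app_res, θ.res]
  gen he := θ.gen (he.app φ.hom)

lemma precomp_map {G : X' ⟶ X} {L₁ L₂ : X.Modules} (φ : L₁ ≅ L₂) (θ : Fam G L₂ L')
    {U : X.Opens} (s : Γ(L₁, U)) : (precomp φ θ).map s = θ.map (φ.hom.app _ s) := rfl

/-- **Homomorphisms from patching, existence and uniqueness.** -/
theorem exists_unique_hom (P : PatchSq π i i' π') {μ' : Fam i' L' N} {μ : Fam π' M N}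
    {L₁ L₂ : X.Modules} (h₁ : PicF.IsInvertible L₁) (h₂ : PicF.IsInvertible L₂)
    {θ₁' : Fam π L₁ L'} {θ₁ : Fam i L₁ M} (c₁ : Compat P.w μ' μ θ₁' θ₁)
    {θ₂' : Fam π L₂ L'} {θ₂ : Fam i L₂ M} (c₂ : Compat P.w μ' μ θ₂' θ₂) :
    ∃! ψ : L₁ ≅ L₂, (∀ (U : X.Opens) (s : Γ(L₁, U)), θ₂'.map (ψ.hom.app U s) = θ₁'.map s) ∧
      ∀ (U : X.Opens) (s : Γ(L₁, U)), θ₂.map (ψ.hom.app U s) = θ₁.map s := by
  rw [compat_iff] at c₁ c₂
  obtain ⟨U, e, hU, he⟩ := Fam.exists_gens h₁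
  obtain ⟨V, f, hV, hf⟩ := Fam.exists_gens h₂
  -- comparison of generators
  have key : ∀ (W : X.Opens) (e : Γ(L₁, W)) (f : Γ(L₂, W)), IsGen e → IsGen f →
      ∃ a : Γ(X, W), IsUnit a ∧ θ₁'.map e = θ₂'.map (a • f) ∧ θ₁.map e = θ₂.map (a • f) := by
    intro W e f he hf
    obtain ⟨b, hbu, hb⟩ := (θ₂'.gen hf).exists_unit (θ₁'.gen he)
    obtain ⟨c, hcu, hc⟩ := (θ₂.gen hf).exists_unit (θ₁.gen he)
    have hle : i' ⁻¹ᵁ (π ⁻¹ᵁ W) ≤ π' ⁻¹ᵁ (i ⁻¹ᵁ W) := (PatchSq.preimage_eq P.w _).le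
    have hbc : ∀ (b : Γ(X', π ⁻¹ᵁ W)) (c : Γ(Y, i ⁻¹ᵁ W)) (e : Γ(L₁, W)) (f : Γ(L₂, W)), IsGen f →
        θ₁'.map e = b • θ₂'.map f → θ₁.map e = c • θ₂.map f → i'.app (π ⁻¹ᵁ W) b = fn π' hle c := by
      intro b c e f hf hb hc
      have hgen : IsGen (μ'.map (θ₂'.map f)) := μ'.gen (θ₂'.gen hf)
      apply hgen.ext
      rw [← μ'.smul, ← hb]
      have e1 := c₁ e (W := i' ⁻¹ᵁ (π ⁻¹ᵁ W)) le_rfl hle
      have e2 := c₂ f (W := i' ⁻¹ᵁ (π ⁻¹ᵁ W)) le_rfl hle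
      rw [Fam.on_le_rfl] at e1 e2
      rw [e1, e2, ← Fam.on_smul, hc]
    obtain ⟨a, ha, ha'⟩ := P.surj W b c hle (hbc b c e f hf hb hc)
    -- the inverse
    obtain ⟨b', hb'⟩ := hbu.exists_left_inv
    obtain ⟨c', hc'⟩ := hcu.exists_left_inv
    have hbc' : i'.app (π ⁻¹ᵁ W) b' = fn π' hle c' := by
      have e1 := hbc b c e f hf hb hc
      have e2 : i'.app (π ⁻¹ᵁ W) b' * i'.app (π ⁻¹ᵁ W) b = 1 := by rw [← map_mul, hb', map_one]
      have e3 : fn π' hle c' * fn π' hle c = 1 := by rw [← map_mul, hc', map_one]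
      have hu : IsUnit (i'.app (π ⁻¹ᵁ W) b) := hbu.map (i'.app (π ⁻¹ᵁ W)).hom
      apply hu.mul_right_cancel
      rw [e2, e1, e3]
    obtain ⟨a', h3, h4⟩ := P.surj W b' c' hle hbc'
    have haa : a' * a = 1 := by
      apply P.ext
      · rw [map_mul, h3, ha, hb', map_one]
      · rw [map_mul, h4, ha', hc', map_one]
    refine ⟨a, IsUnit.of_mul_eq_one_right a' haa, ?_, ?_⟩
    · rw [θ₂'.smul, ha, hb]
    · rw [θ₂.smul, ha', hc]
  have uniq : ∀ (W : X.Opens) (s t : Γ(L₂, W)), θ₂'.map s = θ₂'.map t → θ₂.map s = θ₂.map t →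
      s = t := by
    intro W s t h h'
    refine res_ext L₂ (V := W) (fun y => W ⊓ V y) (fun y => inf_le_left) (cover_inf hV W) fun y => ?_
    obtain ⟨a, ha⟩ := exists_smul (hf y) (inf_le_right : W ⊓ V y ≤ V y)
      (LocGen.res L₂ (inf_le_left : W ⊓ V y ≤ W) s)
    obtain ⟨b, hb⟩ := exists_smul (hf y) (inf_le_right : W ⊓ V y ≤ V y)
      (LocGen.res L₂ (inf_le_left : W ⊓ V y ≤ W) t)
    have e1 := congrArg (LocGen.res L' (π.preimage_mono (inf_le_left : W ⊓ V y ≤ W))) h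
    have e2 := congrArg (LocGen.res M (i.preimage_mono (inf_le_left : W ⊓ V y ≤ W))) h'
    rw [← θ₂'.res (inf_le_left : W ⊓ V y ≤ W), ← θ₂'.res (inf_le_left : W ⊓ V y ≤ W), ← ha, ← hb,
      θ₂'.smul, θ₂'.smul] at e1
    rw [← θ₂.res (inf_le_left : W ⊓ V y ≤ W), ← θ₂.res (inf_le_left : W ⊓ V y ≤ W), ← ha, ← hb,
      θ₂.smul, θ₂.smul] at e2
    have : a = b := P.ext ((θ₂'.gen ((hf y).res _)).ext e1) ((θ₂.gen ((hf y).res _)).ext e2)
    rw [← ha, ← hb, this]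
  -- the common cover
  have hcov : ⨆ p : X × X, U p.1 ⊓ V p.2 = ⊤ := by
    rw [iSup_prod]
    simp only [← inf_iSup_eq, hV, inf_top_eq, hU]
  choose a hau ha ha' using fun p : X × X => key (U p.1 ⊓ V p.2)
    (LocGen.res L₁ inf_le_left (e p.1)) (LocGen.res L₂ inf_le_right (f p.2))
    ((he p.1).res _) ((hf p.2).res _)
  obtain ⟨φ, hφ⟩ := exists_iso (L := L₁) (N := L₂) hcov
    (e := fun p : X × X => LocGen.res L₁ (inf_le_left : U p.1 ⊓ V p.2 ≤ U p.1) (e p.1))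
    (fun p => (he p.1).res _)
    (n := fun p => a p • LocGen.res L₂ (inf_le_right : U p.1 ⊓ V p.2 ≤ V p.2) (f p.2))
    (fun p q T hp hq r hr => by
      apply uniq
      · rw [θ₂'.smul, θ₂'.res, θ₂'.res, ← ha, ← ha, ← θ₁'.res hp, ← θ₁'.res hq, hr, θ₁'.smul]
      · rw [θ₂.smul, θ₂.res, θ₂.res, ← ha', ← ha', ← θ₁.res hp, ← θ₁.res hq, hr, θ₁.smul])
    (fun p => ((hf p.2).res _).unit_smul (hau p))
  have hφ' : ∀ p : X × X, φ.hom.app (U p.1 ⊓ V p.2) (LocGen.res L₁ inf_le_left (e p.1)) =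
      a p • LocGen.res L₂ (inf_le_right : U p.1 ⊓ V p.2 ≤ V p.2) (f p.2) := hφ
  have he' : ∀ p : X × X, IsGen (LocGen.res L₁ (inf_le_left : U p.1 ⊓ V p.2 ≤ U p.1) (e p.1)) :=
    fun p => (he p.1).res _
  have P1 : precomp φ θ₂' = θ₁' := by
    refine Fam.ext_of_gens hcov he' fun p => ?_
    rw [precomp_map, hφ', ← ha]
  have P2 : precomp φ θ₂ = θ₁ := by
    refine Fam.ext_of_gens hcov he' fun p => ?_
    rw [precomp_map, hφ', ← ha']
  refine ⟨φ, ⟨fun W s => ?_, fun W s => ?_⟩, ?_⟩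
  · rw [← P1, precomp_map]
  · rw [← P2, precomp_map]
  · rintro ψ ⟨h3, h4⟩
    apply Iso.ext
    refine hom_ext_of_isGen hcov he' fun p => ?_
    apply uniq
    · rw [h3, hφ', ← ha]
    · rw [h4, hφ', ← ha']

end Groth.Agent.Pic13.H126.Patch
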