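import Groth.Agent.Pic13.H126.LiftOn

/-!
# The patching theorem for invertible modules along a patching square

`b : X' ⟶ X` with `IsPatch b i.ker` (`Groth.Agent.Pic13.H17.Patch`), `i : Y ⟶ X` a closed immersion, `Y' = Y ×_X X'`.

* `patchSq`: `O_X = b_* O_X' ×_(O_Y') O_Y` (no finiteness hypothesis);
* `exists_unique_hom`: uniqueness of the patched invertible module;
* `exists_patch`: existence, for `b` proper and `X` locally Noetherian.
-/

set_option autoImplicit false

universe u

open CategoryTheory CategoryTheory.Limits AlgebraicGeometry TopologicalSpace Opposite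

namespace Groth.Agent.Pic13.H126.PatchMain

open Groth.Agent.Fdesc Groth.Agent.Fdesc.LocGen Groth.Agent.Picfga.LineHom
  Groth.Agent.Picfga.LineDescent Groth.Agent.Picfga.LineFam Groth.Agent.Pic13.H17.Patch
  Groth.Agent.Pic13.H126.Patch Groth.Agent.Pic13.H126.PatchGens

variable {X X' Y Y' : Scheme.{u}} {b : X' ⟶ X} {i : Y ⟶ X} {i' : Y' ⟶ X'} {π' : Y' ⟶ Y}

/-- The kernel of the base change of a closed immersion. -/
theorem ker_eq_of_isPullback [IsClosedImmersion i] (H : IsPullback i' π' b i) :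
    i'.ker = i.ker.comap b := by
  rw [← Scheme.IdealSheafData.ker_fst_of_isClosedImmersion,
    ← Scheme.Hom.ker_comp_of_isIso H.isoPullback.hom, H.isoPullback_hom_fst]

theorem mem_ker_iff [IsClosedImmersion i] (U : X.affineOpens) (a : Γ(X, U.1)) :
    a ∈ i.ker.ideal U ↔ i.app U.1 a = 0 := by
  rw [Scheme.Hom.ker_apply, RingHom.mem_ker]

/-- A patching square in the sense of `Patch.PatchSq`. -/
theorem patchSq [IsClosedImmersion i] [IsClosedImmersion i'] (w : i' ≫ b = π' ≫ i)
    (hker : i'.ker = i.ker.comap b) (h : IsPatch b i.ker) : PatchSq b i i' π' := by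
  have happ : ∀ (U : X.Opens) (h : i' ⁻¹ᵁ (b ⁻¹ᵁ U) ≤ π' ⁻¹ᵁ (i ⁻¹ᵁ U)) (a : Γ(X, U)),
      i'.app (b ⁻¹ᵁ U) (b.app U a) = fn π' h (i.app U a) := by
    intro U h a
    have h1 : fn i' le_rfl (fn b le_rfl a) = fn π' h (fn i le_rfl a) := by
      rw [fn_comp, fn_comp, fn_congr w]
    simpa only [fn_apply, ores_refl] using h1
  refine PatchSq.of_affine w ?_ ?_
  · intro U hU a ha ha'
    obtain ⟨c, -, huniq⟩ := h.m1 ⟨U, hU⟩ 0 (fun W hW => by
      rw [map_zero]
      exact Ideal.zero_mem _)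
    have h1 := huniq a ⟨(mem_ker_iff ⟨U, hU⟩ a).2 ha', ha⟩
    have h2 := huniq 0 ⟨Ideal.zero_mem _, map_zero _⟩
    rw [h1, h2]
  · intro U hU β γ hle hβγ
    obtain ⟨a₀, rfl⟩ := i.app_surjective U hU γ
    obtain ⟨c, ⟨hc, hc'⟩, -⟩ := h.m1 ⟨U, hU⟩ (β - b.app U a₀) (by
      intro W hW
      rw [← hker, mem_ker_iff]
      have h1 : i'.app (b ⁻¹ᵁ U) (β - b.app U a₀) = 0 := by
        rw [map_sub, hβγ, happ U hle, sub_self]
      have h2 := app_ores i' hW (β - b.app U a₀)
      refine h2.trans ?_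
      rw [h1, map_zero])
    refine ⟨a₀ + c, ?_, ?_⟩
    · rw [map_add, hc']
      ring
    · rw [map_add, (mem_ker_iff ⟨U, hU⟩ c).1 hc, add_zero]

theorem range_eq_support [IsClosedImmersion i] : Set.range i = (i.ker.support : Set X) := by
  rw [Scheme.Hom.support_ker, i.isClosedEmbedding.isClosed_range.closure_eq]

theorem exists_fibre (h : IsIso (b ∣_ i.ker.support.compl)) [IsClosedImmersion i] (x : X)
    (hx : x ∉ Set.range i) : ∃ x' : X', ∀ x'' : X', b x'' = x ↔ x'' = x' := by
  rw [range_eq_support] at hx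
  have hxU : x ∈ i.ker.support.compl := hx
  have key : ∀ z : (b ⁻¹ᵁ i.ker.support.compl).toScheme,
      ((b ∣_ i.ker.support.compl) z).1 = b z.1 := fun z => by
    have h1 := congrArg (fun f => f z) (morphismRestrict_ι b i.ker.support.compl)
    exact h1
  obtain ⟨z, hz⟩ := (b ∣_ i.ker.support.compl).homeomorph.surjective ⟨x, hxU⟩
  have hz' : (b ∣_ i.ker.support.compl) z = ⟨x, hxU⟩ := hz
  refine ⟨z.1, fun x'' => ⟨fun h' => ?_, ?_⟩⟩
  · have hx'' : x'' ∈ b ⁻¹ᵁ i.ker.support.compl := by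
      change b x'' ∈ i.ker.support.compl
      rw [h']; exact hxU
    have h2 : (b ∣_ i.ker.support.compl) ⟨x'', hx''⟩ = (b ∣_ i.ker.support.compl) z := by
      rw [hz']
      exact Subtype.ext ((key ⟨x'', hx''⟩).trans h')
    have h3 := (b ∣_ i.ker.support.compl).homeomorph.injective h2
    exact congrArg Subtype.val h3
  · rintro rfl
    rw [← key z, hz']

theorem mem_range_of_mem [IsClosedImmersion i] [IsClosedImmersion i']
    (hker : i'.ker = i.ker.comap b) (x' : X') (hx' : b x' ∈ Set.range i) : x' ∈ Set.range i' := by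
  rw [range_eq_support] at hx' ⊢
  rw [hker, Scheme.IdealSheafData.support_comap]
  exact hx'

variable {L' : X'.Modules} {M : Y.Modules} {N : Y'.Modules}

/-- **The patching theorem**, existence. -/
theorem exists_patch [IsProper b] [IsLocallyNoetherian X] [IsClosedImmersion i] [IsClosedImmersion i']
    (w : i' ≫ b = π' ≫ i) (hker : i'.ker = i.ker.comap b) (h : IsPatch b i.ker)
    (hL' : PicF.IsInvertible L') (hM : PicF.IsInvertible M) (μ' : Fam i' L' N) (μ : Fam π' M N) :
    ∃ (L : X.Modules) (θ' : Fam b L L') (θ : Fam i L M), PicF.IsInvertible L ∧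
      Compat w μ' μ θ' θ :=
  exists_patch_of_lift (patchSq w hker h) b.isClosedMap i.isClosedEmbedding.isClosed_range
    (exists_fibre h.iso) (mem_range_of_mem hker) hL' hM μ' μ
    (LiftOn.liftsAt i.ker w hker h.m2 hL' hM μ' μ)

/-- **The patching theorem**, existence, for the fibre product `Y' = Y ×_X X'`. -/
theorem exists_patch_of_isPullback [IsProper b] [IsLocallyNoetherian X] [IsClosedImmersion i]
    (H : IsPullback i' π' b i) (h : IsPatch b i.ker)
    (hL' : PicF.IsInvertible L') (hM : PicF.IsInvertible M) (μ' : Fam i' L' N) (μ : Fam π' M N) :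
    ∃ (L : X.Modules) (θ' : Fam b L L') (θ : Fam i L M), PicF.IsInvertible L ∧
      Compat H.w μ' μ θ' θ := by
  have : IsClosedImmersion i' := MorphismProperty.of_isPullback H.flip inferInstance
  exact exists_patch H.w (ker_eq_of_isPullback H) h hL' hM μ' μ

theorem patchSq_of_isPullback [IsClosedImmersion i] (H : IsPullback i' π' b i) (h : IsPatch b i.ker) :
    PatchSq b i i' π' := by
  have : IsClosedImmersion i' := MorphismProperty.of_isPullback H.flip inferInstance
  exact patchSq H.w (ker_eq_of_isPullback H) h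

/-- **The patching theorem**, uniqueness (no finiteness hypothesis): two patched modules are uniquely
isomorphic. -/
theorem exists_unique_iso [IsClosedImmersion i] (H : IsPullback i' π' b i) (h : IsPatch b i.ker)
    {μ' : Fam i' L' N} {μ : Fam π' M N} {L₁ L₂ : X.Modules} (h₁ : PicF.IsInvertible L₁)
    (h₂ : PicF.IsInvertible L₂)
    {θ₁' : Fam b L₁ L'} {θ₁ : Fam i L₁ M} (c₁ : Compat H.w μ' μ θ₁' θ₁)
    {θ₂' : Fam b L₂ L'} {θ₂ : Fam i L₂ M} (c₂ : Compat H.w μ' μ θ₂' θ₂) :
    ∃! ψ : L₁ ≅ L₂, (∀ (U : X.Opens) (s : Γ(L₁, U)), θ₂'.map (ψ.hom.app U s) = θ₁'.map s) ∧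
      ∀ (U : X.Opens) (s : Γ(L₁, U)), θ₂.map (ψ.hom.app U s) = θ₁.map s :=
  Patch.exists_unique_hom (patchSq_of_isPullback H h) h₁ h₂ c₁ c₂

end Groth.Agent.Pic13.H126.PatchMain
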