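import Groth.Agent.Sga2.LefThick
import Groth.Agent.Picfga.LineFam

/-!
# Lifting generators through the thickenings of a closed subscheme

`L` invertible on `P`, `J` an ideal sheaf, `T J m = V(J^(m+1))`, `N m = L|_{T m}`.  If
`H¹(P, J^(m+1)/J^(m+2)) = 0` then every generator of `N m` lifts to `N (m+1)`.
-/

set_option autoImplicit false

universe u

open CategoryTheory CategoryTheory.Limits AlgebraicGeometry TopologicalSpace Opposite

namespace Groth.Agent.Pic13.H126.ThickLift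

open Groth.Agent.Fdesc.LocGen Groth.Agent.Sga2.LineLift Groth.Agent.Sga2.LefThick
  Groth.Agent.Picfga.LineFam Groth.Agent.Picfga.LineHom

variable {X : Scheme.{u}} (J : X.IdealSheafData) (L : X.Modules)

/-- The restriction of `L` to the `m`-th thickening. -/
noncomputable abbrev N (m : ℕ) : (T J m).Modules := (Scheme.Modules.pullback (tι J m)).obj L

/-- The canonical family. -/
noncomputable def can (m : ℕ) : Fam (tι J m) L (N J L m) := Fam.ofIso (Iso.refl _)

lemma can_map (m : ℕ) {U : X.Opens} (b : Γ(L, U)) : (can J L m).map b = pullSec (tι J m) b := rfl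

/-- `s'` is the restriction of `s`, tested on local sections of `L`. -/
def Rel {m n : ℕ} (s : Γ(N J L m, ⊤)) (s' : Γ(N J L n, ⊤)) : Prop :=
  ∀ (U : X.Opens) (b : Γ(L, U)), (can J L m).map b = res _ le_top s → (can J L n).map b = res _ le_top s'

variable {J L}

lemma Rel.refl {m : ℕ} (s : Γ(N J L m, ⊤)) : Rel J L s s := fun _ _ h => h

lemma Rel.trans {m n k : ℕ} {s : Γ(N J L m, ⊤)} {s' : Γ(N J L n, ⊤)} {s'' : Γ(N J L k, ⊤)}
    (h : Rel J L s s') (h' : Rel J L s' s'') : Rel J L s s'' := fun U b hb => h' U b (h U b hb)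

lemma fn_eq_pl {Y' Y : Scheme.{u}} (G : Y' ⟶ Y) {U : Y.Opens} {W : Y'.Opens} (h : W ≤ G ⁻¹ᵁ U) (a : Γ(Y, U)) :
    fn G h a = pl G h a := by
  rw [fn_apply, ← pl_eq_app]
  exact ores_pl G _ h a

lemma pl_inc_fn (m : ℕ) {A : X.Opens} {B : (T J (m + 1)).Opens} {C : (T J m).Opens}
    (h : B ≤ tι J (m + 1) ⁻¹ᵁ A) (h' : C ≤ inc J m ⁻¹ᵁ B) (h'' : C ≤ tι J m ⁻¹ᵁ A) (a : Γ(X, A)) :
    pl (inc J m) h' (fn (tι J (m + 1)) h a) = fn (tι J m) h'' a := by
  rw [fn_eq_pl, fn_eq_pl]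
  exact pl_inc J m h h' h'' a

/-- **Lifting of generators to the next thickening.** -/
theorem exists_next (hL : PicF.IsInvertible L) (m : ℕ) (hH : Subsingleton (Coh.HH X (P J m) 1))
    (s : Γ(N J L m, ⊤)) (hs : IsGen s) :
    ∃ s' : Γ(N J L (m + 1), ⊤), IsGen s' ∧ Rel J L s' s := by
  obtain ⟨U, e, hU, he⟩ := Fam.exists_gens hL
  let O : X → (T J (m + 1)).Opens := fun x => tι J (m + 1) ⁻¹ᵁ U x
  have hO : ⨆ x, O x = ⊤ := by
    change ⨆ x, tι J (m + 1) ⁻¹ᵁ U x = ⊤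
    rw [← Scheme.Hom.preimage_iSup, hU]; rfl
  have hO' : ∀ x, inc J m ⁻¹ᵁ O x ≤ tι J m ⁻¹ᵁ U x := fun x => (preimage_inc J m (U x)).le
  let n : ∀ x, Γ(N J L (m + 1), O x) := fun x => (can J L (m + 1)).map (e x)
  have hn : ∀ x, IsGen (n x) := fun x => (can J L (m + 1)).gen (he x)
  have h1 : ∀ x, ∃ a : Γ(T J m, inc J m ⁻¹ᵁ O x), IsUnit a ∧
      res _ le_top s = a • (can J L m).on (hO' x) (e x) := fun x =>
    ((can J L m).isGen_on (hO' x) (he x)).exists_unit (hs.res _)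
  choose c' hc' hcs using h1
  have hcs' : ∀ x (B : (T J m).Opens) (h : B ≤ inc J m ⁻¹ᵁ O x), res _ le_top s =
      ores h (c' x) • (can J L m).on (h.trans (hO' x)) (e x) := by
    intro x B h
    have := congrArg (res _ h) (hcs x)
    rw [res_smul, res_res, Fam.res_on] at this
    exact this
  have hn' : ∀ x y (B : (T J (m + 1)).Opens) (hx : B ≤ O x) (hy : B ≤ O y) (a : Γ(T J (m + 1), B)),
      res _ hx (n x) = a • res _ hy (n y) →
      ores ((inc J m).preimage_mono hy) (c' y) =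
        ores ((inc J m).preimage_mono hx) (c' x) * pl (inc J m) le_rfl a := by
    intro x y B hx hy a ha
    have hB : B ≤ tι J (m + 1) ⁻¹ᵁ (U x ⊓ U y) := le_inf hx hy
    have hB' : inc J m ⁻¹ᵁ B ≤ tι J m ⁻¹ᵁ (U x ⊓ U y) :=
      ((inc J m).preimage_mono hB).trans (preimage_inc J m _).le
    obtain ⟨r, hr⟩ := exists_smul (he y) (inf_le_right : U x ⊓ U y ≤ U y)
      (res L (inf_le_left : U x ⊓ U y ≤ U x) (e x))
    have e1 : a = fn (tι J (m + 1)) hB r := by
      apply smul_inj (hn y) hy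
      rw [← ha]
      have h2 := (can J L (m + 1)).on_res (inf_le_left : U x ⊓ U y ≤ U x) hB (e x)
      have h3 := (can J L (m + 1)).on_res (inf_le_right : U x ⊓ U y ≤ U y) hB (e y)
      rw [← hr, Fam.on_smul, h3] at h2
      exact h2.symm
    have e2 : (can J L m).on (((inc J m).preimage_mono hx).trans (hO' x)) (e x) =
        pl (inc J m) le_rfl a • (can J L m).on (((inc J m).preimage_mono hy).trans (hO' y)) (e y) := by
      rw [e1, pl_inc_fn m hB le_rfl hB']
      have h2 := (can J L m).on_res (inf_le_left : U x ⊓ U y ≤ U x) hB' (e x)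
      have h3 := (can J L m).on_res (inf_le_right : U x ⊓ U y ≤ U y) hB' (e y)
      rw [← hr, Fam.on_smul, h3] at h2
      exact h2.symm
    have h4 := hcs' x _ ((inc J m).preimage_mono hx)
    have h5 := hcs' y _ ((inc J m).preimage_mono hy)
    rw [h4, e2, smul_smul] at h5
    exact (((can J L m).isGen_on _ (he y)).ext h5).symm
  obtain ⟨s', hs'⟩ := exists_lift (kerData J m) (mul_eq_zero J m) (inc_surjective J m) hO hn hc'
    (by
      intro v
      have hv : v ∈ ⨆ x, U x := by rw [hU]; trivial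
      obtain ⟨x, hx⟩ := Opens.mem_iSup.1 hv
      obtain ⟨_, ⟨W, hW, rfl⟩, hvW, hWU⟩ :=
        X.isBasis_affineOpens.exists_subset_of_mem_open hx (U x).isOpen
      exact ⟨W, hvW, exists_local_lift hn' hn ((tι J (m + 1)).preimage_mono hWU)
        (pl_inc_surjective J m ⟨W, hW⟩)⟩)
  refine ⟨s', hs'.isGen hO hn hc' (inc_surjective J m), ?_⟩
  intro V b hb
  refine res_ext _ (V := tι J m ⁻¹ᵁ V) (fun x => tι J m ⁻¹ᵁ (V ⊓ U x))
    (fun x => (tι J m).preimage_mono inf_le_left) ?_ fun x => ?_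
  · rw [← Scheme.Hom.preimage_iSup]
    exact (tι J m).preimage_mono (cover_inf hU V)
  · obtain ⟨r, hr⟩ := exists_smul (he x) (inf_le_right : V ⊓ U x ≤ U x)
      (res L (inf_le_left : V ⊓ U x ≤ V) b)
    have hB : tι J (m + 1) ⁻¹ᵁ (V ⊓ U x) ≤ O x := (tι J (m + 1)).preimage_mono inf_le_right
    have h2 : res _ le_top s' = fn (tι J (m + 1)) (le_refl (tι J (m + 1) ⁻¹ᵁ (V ⊓ U x))) r •
        res _ hB (n x) := by
      have h3 := congrArg (res _ ((tι J (m + 1)).preimage_mono (inf_le_left : V ⊓ U x ≤ V))) hb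
      rw [res_res, ← (can J L (m + 1)).res (inf_le_left : V ⊓ U x ≤ V), ← hr, ← Fam.on_le_rfl,
        Fam.on_smul] at h3
      refine h3.symm.trans ?_
      congr 1
      exact (can J L (m + 1)).on_res _ _ (e x)
    have h3 := hs' x _ le_top hB _ h2
    have hC : inc J m ⁻¹ᵁ (tι J (m + 1) ⁻¹ᵁ (V ⊓ U x)) ≤ tι J m ⁻¹ᵁ (V ⊓ U x) :=
      (preimage_inc J m _).le
    have hC' : tι J m ⁻¹ᵁ (V ⊓ U x) ≤ inc J m ⁻¹ᵁ (tι J (m + 1) ⁻¹ᵁ (V ⊓ U x)) :=
      (preimage_inc J m _).ge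
    rw [pl_inc_fn m le_rfl le_rfl hC] at h3
    -- now compare on `inc⁻¹`
    have h4 : (can J L m).on hC (res L (inf_le_left : V ⊓ U x ≤ V) b) = res _ le_top s := by
      rw [← hr, Fam.on_smul, h3, Fam.on_res]
      exact (hcs' x _ ((inc J m).preimage_mono hB)).symm
    have h5 := congrArg (res _ hC') h4
    rw [Fam.res_on, res_res, Fam.on_res] at h5
    rw [res_res]
    exact h5

/-- **Lifting of generators to all thickenings.** -/
theorem exists_all (hL : PicF.IsInvertible L) (hH : ∀ m, Subsingleton (Coh.HH X (P J m) 1))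
    (s : Γ(N J L 0, ⊤)) (hs : IsGen s) (m : ℕ) :
    ∃ s' : Γ(N J L m, ⊤), IsGen s' ∧ Rel J L s' s := by
  induction m with
  | zero => exact ⟨s, hs, Rel.refl s⟩
  | succ m ih =>
    obtain ⟨s', hs', hr⟩ := ih
    obtain ⟨s'', hs'', hr'⟩ := exists_next hL m (hH m) s' hs'
    exact ⟨s'', hs'', hr'.trans hr⟩

end Groth.Agent.Pic13.H126.ThickLift
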