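import Groth.Agent.Pic13.H126.D2FF
import Groth.Agent.Pic13.H126.ThickLift
import Groth.Agent.CohqB.FiniteType2

/-!
# Lifting a generator from `V(J)` to a global section (formal functions)

`exists_section`: `X` proper over the Noetherian ring `A`, `J = I O_X`, `H¹(X, J^(m+1)/J^(m+2)) = 0` for all `m`.
Every generator of `L|_{V(J)}` lifts to a global section of the invertible module `L`.
-/

set_option autoImplicit false
universe u

open CategoryTheory CategoryTheory.Limits AlgebraicGeometry Opposite TopologicalSpace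

namespace Groth.Agent.Pic13.H126.ThickFF

open Groth.Agent.Fdesc.LocGen Groth.Agent.FormalB Groth.Agent.FormalB.ModPow
  Groth.Agent.FormalB.ModPowAff Groth.Agent.Picfga.LineFam Groth.Agent.Sga2.LefThick ThickLift D2FF

section unit

variable {A : Type u} [CommRing A] {X : Scheme.{u}} [X.Over (Spec (CommRingCat.of A))]
  {K : Ideal A} {Y : Scheme.{u}} {j : Y ⟶ X} {L : X.Modules}

/-- The unit `L ⟶ j_* j^* L` is the quotient by `K L`. -/
theorem isModPow_unit [IsClosedImmersion j]
    (hker : ∀ U : X.Opens, IsAffineOpen U → RingHom.ker (j.app U).hom = K.map (toΓ A X U))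
    (hL : PicF.IsInvertible L) :
    IsModPow K ((Scheme.Modules.pullbackPushforwardAdjunction j).unit.app L) := by
  have hq : Coh.IsQCoh L := Ega2.QCohLocal.isQCoh_of_isInvertible hL
  have hq' : Coh.IsQCoh ((Scheme.Modules.pullback j).obj L) :=
    Ega2.QCohLocal.isQCoh_of_isInvertible (isInvertible_pullback j hL)
  refine FormalLoc.isModPow_of_cover hq (Ega1.QcqsPush.isQCoh_pushforward j _ hq') _ fun x => ?_
  obtain ⟨V, e, hxV, he⟩ := (isInvertible_iff L).1 hL x
  obtain ⟨_, ⟨U, hU, rfl⟩, hxU, hUV⟩ :=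
    X.isBasis_affineOpens.exists_subset_of_mem_open hxV V.isOpen
  have hg : IsGen (res L hUV e) := he.res _
  refine ⟨U, hxU, hU, Grpsch.CubeLift.pullSec_surjective j hL hU, fun m => ?_⟩
  obtain ⟨a, rfl⟩ := hg.exists_eq m
  have h1 : ((Scheme.Modules.pullbackPushforwardAdjunction j).unit.app L).app U (a • res L hUV e) = 0 ↔
      a ∈ K.map (toΓ A X U) := by
    rw [← hker U hU, RingHom.mem_ker]
    have h2 := pullSec_smul j a (res L hUV e)
    constructor
    · intro h
      have h3 : (j.app U a : Γ(Y, j ⁻¹ᵁ U)) • pullSec j (res L hUV e) =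
          (0 : Γ(Y, j ⁻¹ᵁ U)) • pullSec j (res L hUV e) := by
        rw [← h2, zero_smul]
        exact h
      exact (hg.pullSec j).ext h3
    · intro h
      refine h2.trans ?_
      have h4 : (j.app U a : Γ(Y, j ⁻¹ᵁ U)) = 0 := h
      rw [h4]
      exact zero_smul _ _
  rw [h1]
  constructor
  · intro h
    exact Submodule.smul_mem_smul h trivial
  · intro h
    have key : ∀ m ∈ K.map (toΓ A X U) • (⊤ : Submodule Γ(X, U) Γ(L, U)),
        ∃ b ∈ K.map (toΓ A X U), m = b • res L hUV e := by
      intro m hm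
      induction hm using Submodule.smul_induction_on' with
      | smul r hr n _ =>
        obtain ⟨c, rfl⟩ := hg.exists_eq n
        exact ⟨r * c, Ideal.mul_mem_right _ _ hr, by rw [mul_smul]⟩
      | add x _ y _ hx hy =>
        obtain ⟨b, hb, rfl⟩ := hx
        obtain ⟨c, hc, rfl⟩ := hy
        exact ⟨b + c, Ideal.add_mem _ hb hc, by rw [add_smul]⟩
    obtain ⟨b, hb, hab⟩ := key _ h
    rw [hg.ext hab]
    exact hb

end unit

/-- An invertible module is coherent. -/
theorem isCoh_of_isInvertible {X : Scheme.{u}} {L : X.Modules} (hL : PicF.IsInvertible L) : Coh.IsCoh L := by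
  have hq : Coh.IsQCoh L := Ega2.QCohLocal.isQCoh_of_isInvertible hL
  refine ⟨hq, ?_⟩
  refine CohqB.FiniteType2.isFT_of_finite_sections _ fun x => ?_
  obtain ⟨V, e, hxV, he⟩ := (isInvertible_iff L).1 hL x
  obtain ⟨_, ⟨U, hU, rfl⟩, hxU, hUV⟩ :=
    X.isBasis_affineOpens.exists_subset_of_mem_open hxV V.isOpen
  refine ⟨U, hxU, hU, ?_⟩
  have h2 := (he.res hUV).bijective
  refine Module.Finite.of_surjective
    ((LinearMap.id : Γ(X, U) →ₗ[Γ(X, U)] Γ(X, U)).smulRight (res L hUV e)) ?_
  exact h2.2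

variable {A : Type u} [CommRing A] [IsNoetherianRing A] {X : Scheme.{u}}
  [X.Over (Spec (CommRingCat.of A))] [IsProper (X ↘ Spec (CommRingCat.of A))]

/-- **Lifting a generator from `V(J)` to a global section.** -/
theorem exists_section (I : Ideal A) (J : X.IdealSheafData)
    (hJ : ∀ U : X.affineOpens, J.ideal U = I.map (toΓ A X U.1))
    (hH : ∀ m, Subsingleton (Coh.HH X (P J m) 1)) {L : X.Modules} (hL : PicF.IsInvertible L)
    (s : Γ(N J L 0, ⊤)) (hs : IsGen s) : ∃ σ : Γ(L, ⊤), (can J L 0).map σ = s := by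
  have hcoh : Coh.IsCoh L := isCoh_of_isInvertible hL
  obtain ⟨c, hc⟩ := exists_section_lift I hcoh
  have hmod : ∀ m, IsModPow (I ^ (m + 1))
      ((Scheme.Modules.pullbackPushforwardAdjunction (tι J m)).unit.app L) := by
    intro m
    refine isModPow_unit (fun U hU => ?_) hL
    have h1 := (J ^ (m + 1)).ker_subschemeι_app ⟨U, hU⟩
    refine h1.trans ?_
    rw [Scheme.IdealSheafData.ideal_pow, Pi.pow_apply, hJ ⟨U, hU⟩, Ideal.map_pow]
  choose e he he' using fun m => (isModPow_modPowπ I (m + 1) L).exists_iso (hmod m)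
  obtain ⟨sc, hsc, hrel⟩ := exists_all hL hH s hs c
  obtain ⟨σ, hσ⟩ := hc ((e c).inv.app ⊤ sc)
  refine ⟨σ, ?_⟩
  have hpt : ∀ x : X, ∃ U : X.Opens, x ∈ U ∧
      res _ ((tι J 0).preimage_mono (le_top : U ≤ ⊤)) ((can J L 0).map σ) =
        res _ ((tι J 0).preimage_mono (le_top : U ≤ ⊤)) (s : Γ(N J L 0, tι J 0 ⁻¹ᵁ ⊤)) := by
    intro x
    obtain ⟨_, ⟨U, hU, rfl⟩, hxU, -⟩ :=
      X.isBasis_affineOpens.exists_subset_of_mem_open (show x ∈ (⊤ : X.Opens) from trivial) isOpen_univ
    refine ⟨U, hxU, ?_⟩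
    -- lift locally
    obtain ⟨b, hb⟩ := modPowπ_app_surjective I (c + 1) L hcoh.1 hU
      (res _ le_top ((e c).inv.app ⊤ sc))
    have h1 : (can J L c).map b = res _ le_top sc := by
      have h2 := congrArg (fun z => (e c).hom.app U z) hb
      have h3 : ∀ z : Γ(L, U), (e c).hom.app U ((Formal.modPowπ I (c + 1) L).app U z) =
          ((Scheme.Modules.pullbackPushforwardAdjunction (tι J c)).unit.app L).app U z := by
        intro z
        rw [← he c]; rfl
      have h4 : (e c).hom.app U (res _ le_top ((e c).inv.app ⊤ sc)) =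
          res ((Scheme.Modules.pushforward (tι J c)).obj (N J L c)) (le_top : U ≤ ⊤) sc := by
        rw [app_res]
        congr 1
        have h5 : (e c).inv ≫ (e c).hom = 𝟙 _ := (e c).inv_hom_id
        exact congr(($(h5).app ⊤) sc)
      exact ((h3 b).symm.trans h2).trans h4
    have h2 := hrel U b h1
    have h3 : (Formal.modPowπ I (0 + 1) L).app U b =
        (Formal.modPowπ I (0 + 1) L).app U (res L le_top σ) := by
      have h4 : ((Formal.completion I L).map (homOfLE (Nat.zero_le c)).op).app U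
          (res (Formal.modPow I (c + 1) L) (le_top : U ≤ ⊤) ((e c).inv.app ⊤ sc)) =
            (Formal.modPowπ I (0 + 1) L).app U (res L le_top σ) := by
        refine (app_res (((Formal.completion I L).map (homOfLE (Nat.zero_le c)).op)) le_top _).trans ?_
        refine Eq.trans ?_ (app_res (Formal.modPowπ I (0 + 1) L) le_top σ).symm
        exact congrArg (res (Formal.modPow I (0 + 1) L) (le_top : U ≤ ⊤)) hσ
      have h5 := cπ_map I L (Nat.zero_le c)
      have h6 : ((Formal.completion I L).map (homOfLE (Nat.zero_le c)).op).app U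
          ((Formal.modPowπ I (c + 1) L).app U b) = (Formal.modPowπ I (0 + 1) L).app U b :=
        congr(($(h5).app U) b)
      refine h6.symm.trans (Eq.trans ?_ h4)
      exact congrArg (fun z => ((Formal.completion I L).map (homOfLE (Nat.zero_le c)).op).app U z) hb
    have h4 := congrArg (fun z => (e 0).hom.app U z) h3
    have h5 : ∀ z : Γ(L, U), (e 0).hom.app U ((Formal.modPowπ I (0 + 1) L).app U z) =
        (can J L 0).map z := by
      intro z
      have : Formal.modPowπ I (0 + 1) L ≫ (e 0).hom = _ := he 0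
      exact congr(($(this).app U) z)
    have h6 := ((h5 b).symm.trans h4).trans (h5 _)
    rw [(can J L 0).res] at h6
    exact h6.symm.trans h2
  choose U hxU hU using hpt
  refine res_ext _ (V := tι J 0 ⁻¹ᵁ ⊤) (fun x => tι J 0 ⁻¹ᵁ (U x))
    (fun x => (tι J 0).preimage_mono le_top) ?_ hU
  rw [← Scheme.Hom.preimage_iSup]
  exact (tι J 0).preimage_mono fun x _ => Opens.mem_iSup.2 ⟨x, hxU x⟩

end Groth.Agent.Pic13.H126.ThickFF
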